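import Cfsg.Agent.Cit.Trivial
import Cfsg.Agent.Cit.WeakCl
import Cfsg.Agent.Cit.OneBasic
import Cfsg.Agent.SignalizersComponents.QsRankOne
import Cfsg.Agent.S1304

/-!
# The conjugates of a standard subgroup of 2-rank one (helper284)

`A` a quasisimple subgroup of even order and 2-rank one of the finite group `G`, such that two conjugates whose
centralizers have a common involution are equal. Then the family of the conjugates of `A` satisfies `Cit.One`.
-/

set_option autoImplicit false

namespace Cfsg.Agent.H284.OneFam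

open Subgroup Cfsg Cfsg.Agent.Cit

variable {G : Type*} [Group G]

/-- two conjugates of `A` centralized by a common involution are equal -/
def TI (A : Subgroup G) : Prop :=
  ∀ g : G, (∃ s : G, orderOf s = 2 ∧ s ∈ centralizer (A : Set G) ∧ s ∈ centralizer (cj g A : Set G)) → cj g A = A

/-- the conjugates of `A` -/
def fam (A : Subgroup G) : Set (Subgroup G) := {K | ∃ g : G, K = cj g A}

theorem mem_centralizer_cj {A : Subgroup G} {g s : G} :
    s ∈ centralizer (cj g A : Set G) ↔ g⁻¹ * s * g ∈ centralizer (A : Set G) := by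
  rw [mem_centralizer_iff, mem_centralizer_iff]
  constructor
  · intro h a ha
    have h1 := h (g * a * g⁻¹) (conj_mem_cj ha)
    calc a * (g⁻¹ * s * g) = g⁻¹ * (g * a * g⁻¹ * s) * g := by group
      _ = g⁻¹ * (s * (g * a * g⁻¹)) * g := by rw [h1]
      _ = g⁻¹ * s * g * a := by group
  · intro h a ha
    have h1 := h (g⁻¹ * a * g) (mem_cj.1 ha)
    calc a * s = g * (g⁻¹ * a * g * (g⁻¹ * s * g)) * g⁻¹ := by group
      _ = g * (g⁻¹ * s * g * (g⁻¹ * a * g)) * g⁻¹ := by rw [h1]
      _ = s * a := by group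

theorem TI.eq {A : Subgroup G} (h : TI A) {K L : Subgroup G} (hK : K ∈ fam A) (hL : L ∈ fam A) {s : G}
    (hs : orderOf s = 2) (hsK : s ∈ centralizer (K : Set G)) (hsL : s ∈ centralizer (L : Set G)) : K = L := by
  obtain ⟨g, rfl⟩ := hK
  obtain ⟨k, rfl⟩ := hL
  rw [mem_centralizer_cj] at hsK hsL
  have h1 := h (g⁻¹ * k) ⟨g⁻¹ * s * g, ?_, hsK, ?_⟩
  · have h2 : cj g (cj (g⁻¹ * k) A) = cj k A := by rw [← cj_mul, mul_inv_cancel_left]
    rw [h1] at h2
    exact h2
  · have h2 : orderOf (g⁻¹ * s * g) = orderOf s := by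
      have := orderOf_injective (MulAut.conj g⁻¹).toMonoidHom (MulAut.conj g⁻¹).injective s
      simpa using this
    rw [h2, hs]
  · rw [mem_centralizer_cj]
    have e : (g⁻¹ * k)⁻¹ * (g⁻¹ * s * g) * (g⁻¹ * k) = k⁻¹ * s * k := by group
    rw [e]
    exact hsL

/-- an element acting on a perfect subgroup `K` trivially modulo its centre centralizes `K` -/
theorem mem_centralizer_of_comm {K : Subgroup G} (hK : ⁅K, K⁆ = K) {a : G} (ha : a ∈ normalizer (K : Set G))
    (h : ∀ k ∈ K, k⁻¹ * (a * k * a⁻¹) ∈ centralizer (K : Set G)) : a ∈ centralizer (K : Set G) := by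
  have hp : commutator ↥K = ⊤ := by
    apply map_injective K.subtype_injective
    rw [_root_.commutator_def, Subgroup.map_commutator, ← MonoidHom.range_eq_map, Subgroup.range_subtype, hK]
  let α : ↥K ≃* ↥K := Subgroup.normalizerMonoidHom K ⟨a, ha⟩
  have hα : ∀ k : K, ((α k : K) : G) = a * k * a⁻¹ := fun k => rfl
  have h1 := S1304.result hp α (fun x => by
    rw [mem_center_iff]
    intro y
    have h2 := h x x.2
    have h3 : a * x * a⁻¹ = x * ((x : G)⁻¹ * (a * x * a⁻¹)) := by group
    have h4 := mem_centralizer_iff.1 h2 (y : G) y.2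
    have h5 := mem_centralizer_iff.1 h2 (x : G) x.2
    apply Subtype.ext
    simp only [Subgroup.coe_mul, Subgroup.coe_inv, hα]
    rw [h3]
    have h6 : (x : G) * ((x : G)⁻¹ * (a * x * a⁻¹)) * (x : G)⁻¹ = (x : G)⁻¹ * (a * x * a⁻¹) := by
      rw [h5]; group
    rw [h6, h4])
  rw [mem_centralizer_iff]
  intro k hk
  have h2 := congrArg Subtype.val (h1 ⟨k, hk⟩)
  rw [hα] at h2
  have h3 : a * k * a⁻¹ = k := h2
  calc k * a = a * k * a⁻¹ * a := by rw [h3]
    _ = a * k := by group

section

variable [Finite G] {A : Subgroup G}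

/-- in a quasisimple group of even order and 2-rank one there is only one involution, and it is central -/
theorem exists_inv (hq : IsQuasisimple ↥A) (he : Even (Nat.card ↥A)) (hr : PRankLE 2 1 ↥A) :
    ∃ z ∈ A, orderOf z = 2 ∧ z ∈ centralizer (A : Set G) ∧ ∀ t ∈ A, orderOf t = 2 → t = z := by
  obtain ⟨⟨z, hzc, hz⟩, -⟩ := SignalizersComponents.QsRankOne.exists_central_involution hq he hr
  refine ⟨z, z.2, by rwa [Subgroup.orderOf_coe], ?_, ?_⟩
  · rw [mem_centralizer_iff]
    intro a ha
    exact congrArg Subtype.val (mem_center_iff.1 hzc ⟨a, ha⟩)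
  · intro t ht ht2
    have ht2' : orderOf (⟨t, ht⟩ : A) = 2 := by rwa [Subgroup.orderOf_mk]
    by_contra hne
    have hne' : (⟨t, ht⟩ : A) ≠ z := fun h => hne (congrArg Subtype.val h)
    have hcomm : Commute (⟨t, ht⟩ : A) z := mem_center_iff.1 hzc ⟨t, ht⟩
    set t' : A := ⟨t, ht⟩ with ht'
    set B : Subgroup A := Subgroup.closure {t', z} with hB
    have hBc : IsMulCommutative B := by
      rw [hB]
      apply Subgroup.isMulCommutative_closure
      intro x hx y hy
      simp only [Set.mem_insert_iff, Set.mem_singleton_iff] at hx hy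
      rcases hx with rfl | rfl <;> rcases hy with rfl | rfl
      · rfl
      · exact hcomm
      · exact hcomm.symm
      · rfl
    have hB2 : ∀ a ∈ B, a ^ 2 = 1 := by
      intro a ha
      rw [hB] at ha
      refine Subgroup.closure_induction (p := fun a _ => a ^ 2 = 1) ?_ ?_ ?_ ?_ ha
      · intro x hx
        simp only [Set.mem_insert_iff, Set.mem_singleton_iff] at hx
        rcases hx with rfl | rfl
        · rw [← ht2']; exact pow_orderOf_eq_one _
        · rw [← hz]; exact pow_orderOf_eq_one _
      · simp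
      · intro x y hx hy hx2 hy2
        have hc : Commute x y := by
          have := hBc.is_comm.comm ⟨x, hx⟩ ⟨y, hy⟩
          exact congrArg Subtype.val this
        rw [hc.mul_pow, hx2, hy2, one_mul]
      · intro x _ hx2
        rw [inv_pow, hx2, inv_one]
    have hcard := hr B hBc hB2
    have htB : t' ∈ B := Subgroup.subset_closure (by simp)
    have hzB : z ∈ B := Subgroup.subset_closure (by simp)
    have h1 : Subgroup.zpowers t' = B := by
      apply Subgroup.eq_of_le_of_card_ge
      · rw [Subgroup.zpowers_le]; exact htB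
      · rw [Nat.card_zpowers, ht2']; simpa using hcard
    have h2 : Subgroup.zpowers z = B := by
      apply Subgroup.eq_of_le_of_card_ge
      · rw [Subgroup.zpowers_le]; exact hzB
      · rw [Nat.card_zpowers, hz]; simpa using hcard
    apply hne'
    have h3 : z ∈ Subgroup.zpowers t' := by rw [h1]; exact hzB
    obtain ⟨k, hk⟩ := h3
    have hk' : t' ^ k = z := hk
    rcases Int.even_or_odd k with hk2 | hk2
    · exfalso
      obtain ⟨m, rfl⟩ := hk2
      have h4 : t' ^ (m + m) = 1 := by
        rw [← two_mul, zpow_mul, zpow_ofNat, ← ht2', pow_orderOf_eq_one, one_zpow]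
      rw [h4] at hk'
      rw [← hk', orderOf_one] at hz
      exact absurd hz (by norm_num)
    · obtain ⟨m, rfl⟩ := hk2
      have h4 : t' ^ (2 * m + 1) = t' := by
        rw [zpow_add, zpow_mul, zpow_ofNat, ← ht2', pow_orderOf_eq_one, one_zpow, one_mul, zpow_one]
      rw [h4] at hk'
      exact hk'

/-- the facts on the members -/
structure Mem (K : Subgroup G) : Prop where
  qs : IsQuasisimple ↥K
  even : Even (Nat.card ↥K)
  rank : PRankLE 2 1 ↥K

omit [Finite G] in
theorem rank_congr {X Y : Type*} [Group X] [Group Y] (e : X ≃* Y) {p k : ℕ} (h : PRankLE p k X) : PRankLE p k Y := by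
  intro B hB hB2
  have h1 : IsMulCommutative (B.map e.symm.toMonoidHom) := by infer_instance
  have h2 := h (B.map e.symm.toMonoidHom) h1 (by
    rintro _ ⟨a, ha, rfl⟩
    have := hB2 a ha
    rw [← map_pow, this, map_one])
  rwa [Nat.card_congr (B.equivMapOfInjective e.symm.toMonoidHom e.symm.injective).toEquiv.symm] at h2

omit [Finite G] in
theorem Mem.cj {K : Subgroup G} (h : Mem K) (g : G) : Mem (Cit.cj g K) :=
  ⟨SignalizersComponents.QsBasic.isQuasisimple_of_mulEquiv (cjEquiv g K) h.qs,
    by rw [card_cj]; exact h.even, rank_congr (cjEquiv g K) h.rank⟩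

theorem zz_facts {K : Subgroup G} (h : Mem K) : zz K ∈ K ∧ orderOf (zz K) = 2 ∧
    zz K ∈ centralizer (K : Set G) ∧ ∀ t ∈ K, orderOf t = 2 → t = zz K := by
  obtain ⟨z, hzK, hz, hzc, hu⟩ := exists_inv h.qs h.even h.rank
  have h1 := zz_spec ⟨z, hzK, hz⟩
  have h2 : zz K = z := hu _ h1.1 h1.2
  rw [h2]
  exact ⟨hzK, hz, hzc, hu⟩

/-- the centralizer of the involution of a member normalizes the member -/
theorem cent_le (hA : Mem A) (hT : TI A) {K : Subgroup G} (hK : K ∈ fam A) :
    centralizer {zz K} ≤ normalizer (K : Set G) := by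
  intro g hg
  obtain ⟨k, rfl⟩ := id hK
  have hm := hA.cj k
  obtain ⟨-, h2, h3, -⟩ := zz_facts hm
  rw [mem_normalizer_iff_cj]
  refine hT.eq ⟨g * k, by rw [cj_mul]⟩ hK h2 ?_ h3
  rw [mem_centralizer_cj]
  have h4 := mem_centralizer_singleton_iff.1 hg
  have h5 : g⁻¹ * zz (Cit.cj k A) * g = zz (Cit.cj k A) := by
    rw [mul_assoc, ← h4]; group
  rw [h5]
  exact h3

theorem hyp (hA : Mem A) (hT : TI A) : Hyp (fam A) where
  conj := by
    rintro K ⟨k, rfl⟩ g
    exact ⟨g * k, by rw [cj_mul]⟩
  quat := by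
    rintro K ⟨k, rfl⟩
    have hm := hA.cj k
    exact (SignalizersComponents.QsRankOne.exists_central_involution hm.qs hm.even hm.rank).2
  uniq := by
    rintro K ⟨k, rfl⟩
    exact (zz_facts (hA.cj k)).2.2.2
  sub := by
    intro K hK
    obtain ⟨k, rfl⟩ := id hK
    have h1 := cent_le hA hT hK
    have hle : Cit.cj k A ≤ centralizer {zz (Cit.cj k A)} := by
      intro x hx
      rw [mem_centralizer_singleton_iff]
      exact mem_centralizer_iff.1 (zz_facts (hA.cj k)).2.2.1 x hx
    have h2 : ((Cit.cj k A).subgroupOf (centralizer {zz (Cit.cj k A)})).Normal :=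
      (normal_subgroupOf_iff_le_normalizer hle).2 h1
    exact h2.isSubnormal
  h2 := by
    intro K hK L hL hz
    left
    have hmK : Mem K := by obtain ⟨k, rfl⟩ := hK; exact hA.cj k
    have hmL : Mem L := by obtain ⟨k, rfl⟩ := hL; exact hA.cj k
    refine hT.eq hK hL (zz_facts hmK).2.1 (zz_facts hmK).2.2.1 ?_
    rw [hz]
    exact (zz_facts hmL).2.2.1
  h3 := by
    intro K hK L hL y _ _ _ hy
    exact cent_le hA hT hL (mem_centralizer_singleton_iff.2 hy)

/-- **The conjugates of a standard subgroup of 2-rank one.** -/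
theorem one (hA : Mem A) (hT : TI A) : Cit.One (fam A) where
  hyp := hyp hA hT
  one := by
    intro S hS K hK L hL
    by_contra hne
    have h := hyp hA hT
    have hmK : Mem K := by obtain ⟨k, rfl⟩ := hK.1; exact hA.cj k
    have hmL : Mem L := by obtain ⟨k, rfl⟩ := hL.1; exact hA.cj k
    have hzL := h.zz_mem_inf hS hL
    have haK : zz L ∈ normalizer (K : Set G) := inf_le_normalizer h hS hK hL hzL
    have h1 : ∀ k ∈ K, zz L * k * (zz L)⁻¹ * k⁻¹ ∈ OO K := by
      intro k hk
      have h2 : ⁅K, zpowers (zz L)⁆ ≤ OO K := by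
        refine Trivial.commutator_le h hK.1 (syl_inf hS hK) (A := zpowers (zz L)) ?_ ?_ ?_
        · exact hS.to_le (by rw [zpowers_le]; exact hzL.2)
        · rw [zpowers_le]; exact haK
        · intro a ha x hx
          have h3 : a ∈ L ⊓ S := by
            have h4 : zpowers (zz L) ≤ L ⊓ S := by rw [zpowers_le]; exact hzL
            exact h4 ha
          exact (h.comm hS hK hL hne hx h3).symm
      have h3 := h2 (commutator_mem_commutator hk (mem_zpowers (zz L)))
      have h4 := inv_mem h3
      rw [commutatorElement_inv, commutatorElement_def] at h4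
      exact h4
    have hOc : OO K ≤ centralizer (K : Set G) := by
      have hn : (oddCore ↥K).Normal := Lib.Cores.pPrimeCore_normal 2
      have hc : oddCore ↥K ≤ center ↥K := by
        apply SignalizersComponents.QsBasic.normal_le_center_of_ne_top hmK.qs
        intro htop
        have h2 := Lib.Cores.pPrimeCore_coprime (G := ↥K) 2
        rw [show pPrimeCore 2 ↥K = ⊤ from htop, card_top] at h2
        have h3 := Nat.coprime_two_right.1 h2
        exact (Nat.not_even_iff_odd.2 h3) hmK.even
      rintro _ ⟨x, hx, rfl⟩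
      rw [mem_centralizer_iff]
      intro y hy
      exact congrArg Subtype.val (mem_center_iff.1 (hc hx) ⟨y, hy⟩)
    have hKp : ⁅K, K⁆ = K := by
      have h2 : Group.IsPerfect ↥K := hmK.qs.1
      have h3 := h2.commutator_eq_top
      rw [_root_.commutator_def] at h3
      have h4 := congrArg (Subgroup.map K.subtype) h3
      rwa [Subgroup.map_commutator, ← MonoidHom.range_eq_map, Subgroup.range_subtype] at h4
    have hcK : zz L ∈ centralizer (K : Set G) := by
      refine mem_centralizer_of_comm hKp haK fun k hk => ?_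
      have h2 := hOc (h1 k hk)
      have h3 := mem_centralizer_iff.1 h2 k hk
      have h5 : k⁻¹ * (zz L * k * (zz L)⁻¹) = zz L * k * (zz L)⁻¹ * k⁻¹ := by
        calc k⁻¹ * (zz L * k * (zz L)⁻¹) = k⁻¹ * (zz L * k * (zz L)⁻¹ * k⁻¹ * k) := by group
          _ = k⁻¹ * (k * (zz L * k * (zz L)⁻¹ * k⁻¹)) := by rw [h3]
          _ = _ := by group
      rw [h5]
      exact h2
    exact hne (hT.eq hK.1 hL.1 (zz_facts hmL).2.1 hcK (zz_facts hmL).2.2.1)

end

end Cfsg.Agent.H284.OneFam
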