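import Cfsg.Agent.S1347
import Cfsg.Agent.Lib.PComponents
import Cfsg.Agent.SignalizersComponents.QsBasic
import Cfsg.Agent.SignalizersComponents.EvenComponent
import Cfsg.Agent.OddHalf.CoverAlt
import Cfsg.Agent.H284.OneFam

/-!
# Standard subgroups with even centre (helper284)

`G` finite, `O(G) = 1`, `A` standard in `G`, not normal, with centre of even order: `E(G)` is simple, non-abelian,
equal to `F*(G)`, and contains `A`; `A` is a component of the centralizer of its central involution; the conjugates of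
`A` in `E(G)`.
-/

set_option autoImplicit false

namespace Cfsg.Agent.H284.StdRed

open Subgroup Cfsg Cfsg.Agent.SignalizersComponents Cfsg.Agent.SignalizersComponents.QsBasic
open Cfsg.Agent.SignalizersComponents.Components
open scoped commutatorElement

variable {G : Type*} [Group G] [Finite G] {A : Subgroup G}

/-- the centre of a group without odd core is a 2-group -/
theorem center_isPGroup {B : Type*} [Group B] [Finite B] (h : oddCore B = ⊥) : IsPGroup 2 ↥(center B) := by
  rintro ⟨b, hb⟩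
  obtain ⟨k, m, hm, hkm⟩ := Nat.exists_eq_two_pow_mul_odd (orderOf_pos b).ne'
  refine ⟨k, Subtype.ext ?_⟩
  change b ^ 2 ^ k = 1
  have h1 : b ^ 2 ^ k ∈ center B := pow_mem hb _
  have hn : (zpowers (b ^ 2 ^ k)).Normal := by
    refine ⟨fun y hy g => ?_⟩
    have h2 : y ∈ center B := (zpowers_le.mpr h1) hy
    have h3 : g * y * g⁻¹ = y := by
      rw [mem_center_iff.mp h2 g, mul_inv_cancel_right]
    rwa [h3]
  have hodd : (Nat.card ↥(zpowers (b ^ 2 ^ k))).Coprime 2 := by
    rw [Nat.card_zpowers, orderOf_pow, hkm, Nat.gcd_mul_right_left, Nat.mul_div_cancel_left _ (by positivity)]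
    exact hm.coprime_two_right
  have h2 : zpowers (b ^ 2 ^ k) ≤ oddCore B := by
    have : Fact (Nat.Prime 2) := ⟨Nat.prime_two⟩
    exact Lib.PComponents.le_pPrimeCore_of_isSubnormal hn.isSubnormal hodd
  rw [h, le_bot_iff, zpowers_eq_bot] at h2
  exact h2

theorem quasisimple_even {K : Type*} [Group K] [Finite K] (hZ : Even (Nat.card ↥(center K))) : Even (Nat.card K) :=
  even_iff_two_dvd.2 (hZ.two_dvd.trans (Subgroup.card_subgroup_dvd_card _))

theorem oddCore_le_center {K : Type*} [Group K] [Finite K] (hq : IsQuasisimple K) (he : Even (Nat.card K)) :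
    oddCore K ≤ center K := by
  have hn : (oddCore K).Normal := Lib.Cores.pPrimeCore_normal 2
  apply normal_le_center_of_ne_top hq
  intro htop
  have h2 := Lib.Cores.pPrimeCore_coprime (G := K) 2
  rw [show pPrimeCore 2 K = ⊤ from htop, card_top] at h2
  have h3 := Nat.coprime_two_right.1 h2
  exact (Nat.not_even_iff_odd.2 h3) he

/-- the centre of `K/N`, `N` central, `K` quasisimple -/
theorem center_quot {K : Type*} [Group K] (hq : IsQuasisimple K) {N : Subgroup K} [N.Normal] (hN : N ≤ center K) :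
    center (K ⧸ N) = (center K).map (QuotientGroup.mk' N) := by
  apply le_antisymm
  · intro x hx
    obtain ⟨a, rfl⟩ := QuotientGroup.mk'_surjective N x
    refine ⟨a, ?_, rfl⟩
    apply EvenComponent.mem_center_of_map_mem_center (QuotientGroup.mk' N) hq.1 (by rw [QuotientGroup.ker_mk']; exact hN)
    intro y
    rw [map_mul, map_mul]
    exact ((mem_center_iff.1 hx) (QuotientGroup.mk' N y)).symm
  · rintro _ ⟨a, ha, rfl⟩
    rw [mem_center_iff]
    intro y
    obtain ⟨b, rfl⟩ := QuotientGroup.mk'_surjective N y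
    rw [← map_mul, ← map_mul, mem_center_iff.1 ha b]

/-- `(K/N)/Z(K/N) ≃ K/Z(K)`, `N` central, `K` quasisimple -/
theorem exists_quot_equiv {K : Type*} [Group K] (hq : IsQuasisimple K) {N : Subgroup K} [N.Normal] (hN : N ≤ center K) :
    Nonempty ((K ⧸ N) ⧸ center (K ⧸ N) ≃* K ⧸ center K) := by
  have h := center_quot hq hN
  exact ⟨(QuotientGroup.quotientMulEquivOfEq h).trans (QuotientGroup.quotientQuotientEquivQuotient N (center K) hN)⟩

/-- a perfect group with nontrivial centre is not split over its centre -/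
theorem not_split {M : Type*} [Group M] (hp : commutator M = ⊤) (hZ : center M ≠ ⊥) (L : Subgroup M) :
    ¬ (center M).IsComplement' L := by
  intro hc
  have hsup : center M ⊔ L = ⊤ := hc.sup_eq_top
  have hn : L.Normal := by
    rw [← Subgroup.normalizer_eq_top_iff, eq_top_iff, ← hsup, sup_le_iff]
    refine ⟨fun z hz => ?_, le_normalizer⟩
    rw [mem_normalizer_iff]
    intro l
    have : z * l * z⁻¹ = l := by
      rw [← mem_center_iff.mp hz l, mul_inv_cancel_right]
    rw [this]
  have h1 : commutator M ≤ L := by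
    rw [commutator_def, commutator_le]
    intro a _ b _
    have key : ∀ g : M, ∃ l ∈ L, ∃ z ∈ center M, g = z * l := by
      intro g
      have hg : g ∈ center M ⊔ L := by rw [hsup]; exact mem_top g
      obtain ⟨z, hz, l, hl, rfl⟩ := mem_sup_of_normal_right.mp hg
      exact ⟨l, hl, z, hz, rfl⟩
    obtain ⟨l, hl, z, hz, rfl⟩ := key a
    obtain ⟨l', hl', z', hz', rfl⟩ := key b
    have c1 : ∀ g : M, g * z = z * g := fun g => mem_center_iff.mp hz g
    have c2 : ∀ g : M, g * z' = z' * g := fun g => mem_center_iff.mp hz' g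
    have : ⁅z * l, z' * l'⁆ = ⁅l, l'⁆ := by
      rw [commutatorElement_def, commutatorElement_def, mul_inv_rev, mul_inv_rev]
      calc z * l * (z' * l') * (l⁻¹ * z⁻¹) * (l'⁻¹ * z'⁻¹)
          = z * (l * z') * l' * l⁻¹ * z⁻¹ * l'⁻¹ * z'⁻¹ := by group
        _ = z * (z' * l) * l' * l⁻¹ * z⁻¹ * l'⁻¹ * z'⁻¹ := by rw [c2 l]
        _ = (z * (z' * l * l' * l⁻¹)) * z⁻¹ * l'⁻¹ * z'⁻¹ := by group
        _ = ((z' * l * l' * l⁻¹) * z) * z⁻¹ * l'⁻¹ * z'⁻¹ := by rw [c1]
        _ = z' * (l * l' * l⁻¹ * l'⁻¹) * z'⁻¹ := by group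
        _ = (l * l' * l⁻¹ * l'⁻¹) * z' * z'⁻¹ := by rw [← c2]
        _ = _ := by group
    rw [this, commutatorElement_def]
    exact mul_mem (mul_mem (mul_mem hl hl') (inv_mem hl)) (inv_mem hl')
  rw [hp, top_le_iff] at h1
  apply hZ
  have h2 := hc.disjoint
  rw [h1, disjoint_top] at h2
  exact h2

theorem twoAlt {M : Type*} [Group M] [Finite M] (hq : IsQuasisimple M) (h2 : IsPGroup 2 ↥(center M))
    (hZ : center M ≠ ⊥) {n : ℕ} (hn : 5 ≤ n) (e : M ⧸ center M ≃* ↥(alternatingGroup (Fin n))) :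
    IsNonsplitDoubleCover M ↥(alternatingGroup (Fin n)) := by
  have h1 := OddHalf.CoverAlt.card_le_two hq.1.commutator_eq_top (center M) le_rfl h2 hn e
  have h3 : Nat.card ↥(center M) ≠ 1 := fun h => hZ (Subgroup.card_eq_one.mp h)
  have h4 : 0 < Nat.card ↥(center M) := Nat.card_pos
  exact ⟨by omega, ⟨e⟩, fun L => not_split hq.1.commutator_eq_top hZ L⟩

/-- **`A/O(A)` is a nonsplit double cover** -/
theorem double_cover {K : Type*} [Group K] [Finite K] (hq : IsQuasisimple K) (hZ : Even (Nat.card ↥(center K)))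
    {n : ℕ} (hn : 5 ≤ n) (e : K ⧸ center K ≃* ↥(alternatingGroup (Fin n))) :
    IsQuasisimple (K ⧸ oddCore K) ∧ IsNonsplitDoubleCover (K ⧸ oddCore K) ↥(alternatingGroup (Fin n)) := by
  have hn1 : (oddCore K).Normal := Lib.Cores.pPrimeCore_normal 2
  have hO := oddCore_le_center hq (quasisimple_even hZ)
  obtain ⟨e1⟩ := exists_quot_equiv hq hO
  have hq1 : IsQuasisimple (K ⧸ oddCore K) :=
    EvenComponent.isQuasisimple_of_surjective (QuotientGroup.mk' (oddCore K)) (QuotientGroup.mk'_surjective _) hq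
      (by rw [QuotientGroup.ker_mk']; exact hO)
  refine ⟨hq1, twoAlt hq1 (center_isPGroup (Lib.Cores.pPrimeCore_quotient_pPrimeCore 2)) ?_ hn (e1.trans e)⟩
  intro hbot
  rw [center_quot hq hO, Subgroup.map_eq_bot_iff, QuotientGroup.ker_mk'] at hbot
  have h1 : center K = oddCore K := le_antisymm hbot hO
  rw [h1] at hZ
  have h2 := Lib.Cores.pPrimeCore_coprime (G := K) 2
  have h3 := Nat.coprime_two_right.1 h2
  exact (Nat.not_even_iff_odd.2 h3) hZ

/-! ### The standard subgroup -/

omit [Finite G] in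
/-- two conjugates of a standard subgroup centralized by a common involution are equal -/
theorem ti (hA : IsStandardSubgroup A) : OneFam.TI A := by
  rintro g ⟨s, hs, hsA, hsg⟩
  obtain ⟨-, ht, -, hN⟩ := hA
  by_contra hne
  have hg : g ∉ normalizer (A : Set G) := fun h => hne (Cit.mem_normalizer_iff_cj.1 h)
  rw [hN] at hg
  have h1 := ht.2 g hg
  rw [OneFam.mem_centralizer_cj] at hsg
  have h2 : s ∈ centralizer (A : Set G) ⊓ (centralizer (A : Set G)).map (MulAut.conj g).toMonoidHom := by
    refine ⟨hsA, g⁻¹ * s * g, hsg, ?_⟩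
    show g * (g⁻¹ * s * g) * g⁻¹ = s
    group
  have h3 : orderOf (⟨s, h2⟩ : ↥(centralizer (A : Set G) ⊓
      (centralizer (A : Set G)).map (MulAut.conj g).toMonoidHom)) ∣ _ := orderOf_dvd_natCard _
  rw [Subgroup.orderOf_mk, hs] at h3
  exact (Nat.not_even_iff_odd.2 h1) (even_iff_two_dvd.2 h3)

omit [Finite G] in
theorem ti_subgroupOf (h : OneFam.TI A) {E : Subgroup G} (hAE : A ≤ E) : OneFam.TI (A.subgroupOf E) := by
  rintro g ⟨s, hs, hsA, hsg⟩
  have key : ∀ x : E, x ∈ centralizer (A.subgroupOf E : Set E) → (x : G) ∈ centralizer (A : Set G) := by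
    intro x hx
    rw [mem_centralizer_iff] at hx ⊢
    intro a ha
    exact congrArg Subtype.val (hx ⟨a, hAE ha⟩ (mem_subgroupOf.2 ha))
  have h1 := h (g : G) ⟨s, by rwa [Subgroup.orderOf_coe], key s hsA, by
    rw [OneFam.mem_centralizer_cj] at hsg ⊢
    exact key _ hsg⟩
  ext x
  rw [Cit.mem_cj, mem_subgroupOf, mem_subgroupOf]
  have h2 : (x : G) ∈ Cit.cj (g : G) A ↔ (x : G) ∈ A := by rw [h1]
  rw [Cit.mem_cj] at h2
  exact h2

theorem exists_involution (hZ : Even (Nat.card ↥(center ↥A))) :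
    ∃ z : G, z ∈ A ∧ orderOf z = 2 ∧ z ∈ centralizer (A : Set G) := by
  obtain ⟨⟨z, hz⟩, h2⟩ := exists_prime_orderOf_dvd_card' (G := ↥(center ↥A)) 2 hZ.two_dvd
  refine ⟨z, z.2, ?_, ?_⟩
  · rw [← h2, Subgroup.orderOf_mk, Subgroup.orderOf_coe]
  · rw [mem_centralizer_iff]
    intro a ha
    exact congrArg Subtype.val (mem_center_iff.1 hz ⟨a, ha⟩)

/-- **The reduction.** -/
theorem red (hO : oddCore G = ⊥) (hA : IsStandardSubgroup A) (hnA : ¬ A.Normal)
    (hZ : Even (Nat.card ↥(center ↥A))) :
    A ≤ layer G ∧ IsSimpleGroup ↥(layer G) ∧ ¬ IsMulCommutative ↥(layer G) ∧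
      generalizedFittingSubgroup G = layer G := by
  obtain ⟨z, hzA, hz, hzc⟩ := exists_involution hZ
  have h2 : pCore 2 G = ⊥ := by
    by_contra h
    exact hnA (StandardTrichotomy.normal_of_pCore_ne_bot hA hz hzc h)
  have hF : fittingSubgroup G = ⊥ := by
    have := CompOrbit.fittingSubgroup_le_pCore (p := 2) hO
    rw [h2] at this
    exact le_bot_iff.mp this
  have h3 : generalizedFittingSubgroup G = layer G := by
    show layer G ⊔ fittingSubgroup G = layer G
    rw [hF, sup_bot_eq]
  rcases S1347.result A hA hO z hz hzc with h | ⟨X, hX, hXn, ⟨e⟩, -⟩ | ⟨h, h', h''⟩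
  · exact absurd h hnA
  · exfalso
    have hc : center X = ⊥ := by
      rcases (inferInstance : (center X).Normal).eq_bot_or_eq_top with h | h
      · exact h
      · exfalso
        apply hXn
        refine ⟨⟨fun a b => ?_⟩⟩
        have ha : a ∈ center X := by rw [h]; exact mem_top a
        exact ((mem_center_iff.1 ha) b).symm
    have h4 : (⟨z, hzA⟩ : A) ∈ center A := by
      rw [mem_center_iff]
      intro a
      exact Subtype.ext (mem_centralizer_iff.1 hzc (a : G) a.2)
    rw [← map_center_mulEquiv e, hc, Subgroup.map_bot, mem_bot] at h4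
    have h5 : z = 1 := congrArg Subtype.val h4
    rw [h5, orderOf_one] at hz
    exact absurd hz (by norm_num)
  · exact ⟨h, h', h'', h3⟩

/-- `A` is a 2-component of the centralizer of its involution -/
theorem isPComponent (hA : IsStandardSubgroup A) {z : G} (hzA : z ∈ A) (hz : orderOf z = 2)
    (hzc : z ∈ centralizer (A : Set G)) :
    A ≤ centralizer {z} ∧ IsPComponent 2 (A.subgroupOf (centralizer {z})) := by
  have hle : A ≤ centralizer {z} := by
    intro a ha
    rw [mem_centralizer_singleton_iff]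
    exact mem_centralizer_iff.1 hzc a ha
  have hN := StandardTrichotomy.centralizer_involution_le hA hz hzc
  have hn : (A.subgroupOf (centralizer {z})).Normal := (normal_subgroupOf_iff_le_normalizer hle).2 hN
  refine ⟨hle, ?_⟩
  have : Fact (Nat.Prime 2) := ⟨Nat.prime_two⟩
  apply EvenComponent.isPComponent_of_isComponent
  · refine ⟨hn.isSubnormal, ?_⟩
    exact QsBasic.isQuasisimple_of_mulEquiv (subgroupOfEquivOfLe hle).symm hA.1
  · rw [Nat.card_congr (subgroupOfEquivOfLe hle).toEquiv]
    have h1 : orderOf (⟨z, hzA⟩ : A) ∣ Nat.card A := orderOf_dvd_natCard _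
    rwa [Subgroup.orderOf_mk, hz] at h1

end Cfsg.Agent.H284.StdRed
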