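import Cfsg.Agent.StdAlt.Six.AutLemmas
import Cfsg.Agent.OddCyclic.EmpFFAlt
import Cfsg.Agent.SignalizersComponents.Components
import Cfsg.Agent.S0144
import Cfsg.Prelude.Def_EvenType

/-!
# Components of the centralizers of involutory automorphisms of alternating groups (helper284)

`X = A_m`, `x` an automorphism of `X` with `x * x = 1`, `x ≠ 1`, `A` a component of `C_X(x)`: `A = A_n`, `m = n + 2k`,
`k ≥ 1`, `n ≥ 5`, and for `k ≥ 2` the centralizer of `A` in `C_X(x)` contains a four-group.
-/

set_option autoImplicit false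

namespace Cfsg.Agent.H284.AltComp

open Equiv Equiv.Perm Subgroup Cfsg Cfsg.Agent.SignalizersComponents.Components

section perm

variable {α : Type} [Fintype α] [DecidableEq α] (s : Perm α)

/-- the moved points -/
abbrev Mv (s : Perm α) := {i : α // s i ≠ i}

/-- the fixed points -/
abbrev Fx (s : Perm α) := {i : α // s i = i}

/-- the even permutations commuting with `s` -/
def CA (s : Perm α) : Subgroup ↥(alternatingGroup α) :=
  (centralizer ({s} : Set (Perm α))).subgroupOf (alternatingGroup α)

theorem mem_CA {c : ↥(alternatingGroup α)} : c ∈ CA s ↔ ∀ i, s ((c : Perm α) i) = (c : Perm α) (s i) := by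
  rw [CA, mem_subgroupOf, mem_centralizer_singleton_iff]
  constructor
  · intro h i
    exact (congrArg (fun x : Perm α => x i) h).symm
  · intro h
    ext i
    exact (h i).symm

theorem comm_apply {c : ↥(alternatingGroup α)} (hc : c ∈ CA s) (i : α) : s ((c : Perm α) i) = (c : Perm α) (s i) :=
  (mem_CA s).1 hc i

theorem moved_iff {c : ↥(alternatingGroup α)} (hc : c ∈ CA s) (i : α) :
    s ((c : Perm α) i) ≠ (c : Perm α) i ↔ s i ≠ i := by
  rw [comm_apply s hc, ne_eq, EmbeddingLike.apply_eq_iff_eq]

/-- the action of the centralizer on the moved points -/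
def rho : ↥(CA s) →* Perm (Mv s) where
  toFun c := ((c : ↥(alternatingGroup α)) : Perm α).subtypePerm (fun i => moved_iff s c.2 i)
  map_one' := by ext i; rfl
  map_mul' a b := by ext i; rfl

/-- `A(fixed points)` in the centralizer -/
def phi : ↥(alternatingGroup (Fx s)) →* ↥(CA s) where
  toFun g := ⟨⟨ofSubtype (g : Perm (Fx s)), by
      rw [mem_alternatingGroup, sign_ofSubtype]
      exact mem_alternatingGroup.1 g.2⟩, by
    refine mem_subgroupOf.2 (mem_centralizer_singleton_iff.2 ?_)
    ext i
    change (ofSubtype (g : Perm (Fx s))) (s i) = s ((ofSubtype (g : Perm (Fx s))) i)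
    by_cases hi : s i = i
    · rw [hi, ofSubtype_apply_of_mem (g : Perm (Fx s)) (p := fun i => s i = i) hi]
      exact ((g : Perm (Fx s)) ⟨i, hi⟩).2.symm
    · have h2 : ¬ s (s i) = s i := fun h => hi (s.injective h)
      rw [ofSubtype_apply_of_not_mem (g : Perm (Fx s)) (p := fun i => s i = i) h2,
        ofSubtype_apply_of_not_mem (g : Perm (Fx s)) (p := fun i => s i = i) hi]⟩
  map_one' := by
    apply Subtype.ext
    apply Subtype.ext
    exact map_one ofSubtype
  map_mul' a b := by
    apply Subtype.ext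
    apply Subtype.ext
    exact map_mul ofSubtype _ _

theorem phi_injective : Function.Injective (phi s) := by
  intro a b h
  have h1 : ofSubtype (a : Perm (Fx s)) = ofSubtype (b : Perm (Fx s)) :=
    congrArg (fun c : ↥(CA s) => ((c : ↥(alternatingGroup α)) : Perm α)) h
  exact Subtype.ext (ofSubtype_injective h1)

theorem mem_ker {c : ↥(CA s)} : c ∈ (rho s).ker ↔ ∀ i : α, s i ≠ i → ((c : ↥(alternatingGroup α)) : Perm α) i = i := by
  rw [MonoidHom.mem_ker]
  constructor
  · intro hc i hi
    have := congrArg (fun t : Perm (Mv s) => ((t ⟨i, hi⟩ : Mv s) : α)) hc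
    exact this
  · intro h
    ext ⟨i, hi⟩
    exact h i hi

theorem ker_rho : (rho s).ker = (phi s).range := by
  ext c
  rw [mem_ker, MonoidHom.mem_range]
  constructor
  · intro h1
    have h3 : ∀ i : α, s (((c : ↥(alternatingGroup α)) : Perm α) i) =
        ((c : ↥(alternatingGroup α)) : Perm α) i ↔ s i = i := by
      intro i
      have := moved_iff s c.2 i
      tauto
    have h4 : ∀ i : α, ((c : ↥(alternatingGroup α)) : Perm α) i ≠ i → s i = i := by
      intro i hi
      by_contra h
      exact hi (h1 i h)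
    refine ⟨⟨((c : ↥(alternatingGroup α)) : Perm α).subtypePerm h3, ?_⟩, ?_⟩
    · rw [mem_alternatingGroup, sign_subtypePerm _ h3 h4]
      exact mem_alternatingGroup.1 (c : ↥(alternatingGroup α)).2
    · apply Subtype.ext
      apply Subtype.ext
      exact ofSubtype_subtypePerm h3 h4
  · rintro ⟨g, rfl⟩ i hi
    exact ofSubtype_apply_of_not_mem (g : Perm (Fx s)) (p := fun i => s i = i) hi

/-- `N ≃* A(fixed points)` -/
noncomputable def kerEquiv : ↥(alternatingGroup (Fx s)) ≃* ↥(rho s).ker :=
  (MonoidHom.ofInjective (phi_injective s)).trans (MulEquiv.subgroupCongr (ker_rho s).symm)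

theorem card_split : Fintype.card (Mv s) + Fintype.card (Fx s) = Fintype.card α := by
  have h := Fintype.card_subtype_compl (fun i : α => s i = i)
  have h2 := Fintype.card_subtype_le (fun i : α => s i = i)
  have h3 : Fintype.card (Mv s) = Fintype.card α - Fintype.card (Fx s) := h
  have h4 : Fintype.card (Fx s) ≤ Fintype.card α := h2
  omega

/-- the number of moved points is even -/
theorem even_moved (hs : s * s = 1) : Even (Fintype.card (Mv s)) := by
  have : Fact (Nat.Prime 2) := ⟨Nat.prime_two⟩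
  have h1 : s ^ 2 = 1 := by rw [pow_two]; exact hs
  have h2 := cycleType_of_pow_prime_eq_one h1
  have h4 := sum_cycleType s
  rw [h2, Multiset.sum_replicate, smul_eq_mul] at h4
  have h5 : Fintype.card (Mv s) = s.support.card := by
    rw [Fintype.card_subtype]
    congr 1
  rw [h5, ← h4]
  exact even_two.mul_left _

/-- a group of permutations of at most four points is solvable -/
theorem solvable_perm_four {β : Type} [Fintype β] [DecidableEq β] (h : Fintype.card β ≤ 4) :
    Group.IsSolvable (Perm β) := by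
  have h1 : ∃ a b : ℕ, Nat.card (Perm β) = 2 ^ a * 3 ^ b := by
    have h2 : Nat.card (Perm β) ∣ (Fintype.card β).factorial := by
      rw [← Nat.card_eq_fintype_card, ← Nat.card_perm]
    have h3 : (Fintype.card β).factorial ∣ 24 := by
      have := Nat.factorial_dvd_factorial h
      exact this
    have h4 := h2.trans h3
    have h5 : Nat.card (Perm β) ≤ 24 := Nat.le_of_dvd (by norm_num) h4
    set m := Nat.card (Perm β)
    interval_cases m
    all_goals first
      | exact absurd h4 (by decide)
      | exact ⟨0, 0, rfl⟩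
      | exact ⟨1, 0, rfl⟩
      | exact ⟨0, 1, rfl⟩
      | exact ⟨2, 0, rfl⟩
      | exact ⟨1, 1, rfl⟩
      | exact ⟨3, 0, rfl⟩
      | exact ⟨2, 1, rfl⟩
      | exact ⟨3, 1, rfl⟩
  obtain ⟨a, b, hab⟩ := h1
  exact Cfsg.Agent.S0144.result 2 3 a b Nat.prime_two Nat.prime_three hab

/-- a perfect subgroup with solvable image lies in the kernel -/
theorem le_ker_of_solvable {C D : Type*} [Group C] [Group D] {f : C →* D} {A : Subgroup C} (hA : ⁅A, A⁆ = A)
    (h : Group.IsSolvable ↥(A.map f)) : A ≤ f.ker := by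
  rw [← Subgroup.map_eq_bot_iff]
  by_contra hne
  have h1 : ⁅A.map f, A.map f⁆ = A.map f := by rw [← map_commutator, hA]
  have h2 : Group.IsPerfect ↥(A.map f) := Subgroup.isPerfect_iff.mpr h1
  have h3 : Nontrivial ↥(A.map f) := (Subgroup.nontrivial_iff_ne_bot _).2 hne
  exact Group.IsPerfect.not_isSolvable ↥(A.map f) h

variable {s}

omit [Fintype α] [DecidableEq α] in
theorem ais (g : Perm α) (i : α) : g (g⁻¹ i) = i := g.apply_symm_apply i

/-- the permutations fixing all orbits of `s` -/
def NN (hs : ∀ i, s (s i) = i) : Subgroup ↥(CA s) where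
  carrier := {c | ∀ i, ((c : ↥(alternatingGroup α)) : Perm α) i = i ∨ ((c : ↥(alternatingGroup α)) : Perm α) i = s i}
  one_mem' i := Or.inl rfl
  mul_mem' {a} {b} ha hb i := by
    change ((a : ↥(alternatingGroup α)) : Perm α) (((b : ↥(alternatingGroup α)) : Perm α) i) = i ∨
      ((a : ↥(alternatingGroup α)) : Perm α) (((b : ↥(alternatingGroup α)) : Perm α) i) = s i
    have h1 := comm_apply s a.2 i
    rcases hb i with h | h
    · rw [h]; exact ha i
    · rw [h, ← h1]
      rcases ha i with h' | h'
      · right; rw [h']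
      · left; rw [h', hs]
  inv_mem' {a} ha i := by
    change (((a : ↥(alternatingGroup α)) : Perm α)⁻¹ i = i) ∨ (((a : ↥(alternatingGroup α)) : Perm α)⁻¹ i = s i)
    rcases ha (((a : ↥(alternatingGroup α)) : Perm α)⁻¹ i) with h | h
    · rw [ais] at h
      exact Or.inl h.symm
    · rw [ais] at h
      right
      have h' := congrArg s h
      rw [hs] at h'
      exact h'.symm

theorem mem_NN {hs : ∀ i, s (s i) = i} {c : ↥(CA s)} : c ∈ NN hs ↔
    ∀ i, ((c : ↥(alternatingGroup α)) : Perm α) i = i ∨ ((c : ↥(alternatingGroup α)) : Perm α) i = s i := Iff.rfl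

/-- the permutations fixing all orbits of length two of `s` -/
def MM (hs : ∀ i, s (s i) = i) : Subgroup ↥(CA s) where
  carrier := {c | ∀ i, s i ≠ i → ((c : ↥(alternatingGroup α)) : Perm α) i = i ∨
    ((c : ↥(alternatingGroup α)) : Perm α) i = s i}
  one_mem' i _ := Or.inl rfl
  mul_mem' {a} {b} ha hb i hi := by
    change ((a : ↥(alternatingGroup α)) : Perm α) (((b : ↥(alternatingGroup α)) : Perm α) i) = i ∨
      ((a : ↥(alternatingGroup α)) : Perm α) (((b : ↥(alternatingGroup α)) : Perm α) i) = s i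
    have h1 := comm_apply s a.2 i
    rcases hb i hi with h | h
    · rw [h]; exact ha i hi
    · rw [h, ← h1]
      rcases ha i hi with h' | h'
      · right; rw [h']
      · left; rw [h', hs]
  inv_mem' {a} ha i hi := by
    change (((a : ↥(alternatingGroup α)) : Perm α)⁻¹ i = i) ∨ (((a : ↥(alternatingGroup α)) : Perm α)⁻¹ i = s i)
    have h0 : s (((a : ↥(alternatingGroup α)) : Perm α)⁻¹ i) ≠ ((a : ↥(alternatingGroup α)) : Perm α)⁻¹ i := by
      rw [← moved_iff s a.2, ais]
      exact hi
    rcases ha (((a : ↥(alternatingGroup α)) : Perm α)⁻¹ i) h0 with h | h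
    · rw [ais] at h
      exact Or.inl h.symm
    · rw [ais] at h
      right
      have h' := congrArg s h
      rw [hs] at h'
      exact h'.symm

theorem mem_MM {hs : ∀ i, s (s i) = i} {c : ↥(CA s)} : c ∈ MM hs ↔ ∀ i, s i ≠ i →
    ((c : ↥(alternatingGroup α)) : Perm α) i = i ∨ ((c : ↥(alternatingGroup α)) : Perm α) i = s i := Iff.rfl

theorem comm_MM (hs : ∀ i, s (s i) = i) {a b : ↥(CA s)} (ha : a ∈ MM hs) (hb : b ∈ MM hs) {i : α} (hi : s i ≠ i) :
    ((a : ↥(alternatingGroup α)) : Perm α) (((b : ↥(alternatingGroup α)) : Perm α) i) =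
      ((b : ↥(alternatingGroup α)) : Perm α) (((a : ↥(alternatingGroup α)) : Perm α) i) := by
  have h1 := comm_apply s a.2 i
  have h2 := comm_apply s b.2 i
  rcases ha i hi with h | h <;> rcases hb i hi with h' | h'
  · rw [h, h', h]
  · rw [h, h', ← h1, h]
  · rw [h, h', ← h2, h', h]
  · rw [h, h', ← h1, ← h2, h, h']

theorem normal_NN (hs : ∀ i, s (s i) = i) : (NN hs).Normal := by
  refine ⟨fun n hn g i => ?_⟩
  change ((g : ↥(alternatingGroup α)) : Perm α) (((n : ↥(alternatingGroup α)) : Perm α)
      (((g : ↥(alternatingGroup α)) : Perm α)⁻¹ i)) = i ∨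
    ((g : ↥(alternatingGroup α)) : Perm α) (((n : ↥(alternatingGroup α)) : Perm α)
      (((g : ↥(alternatingGroup α)) : Perm α)⁻¹ i)) = s i
  rcases hn (((g : ↥(alternatingGroup α)) : Perm α)⁻¹ i) with h | h
  · left; rw [h, ais]
  · right; rw [h, ← comm_apply s g.2, ais]

theorem solvable_NN (hs : ∀ i, s (s i) = i) : Group.IsSolvable ↥(NN hs) := by
  apply Group.isSolvable_of_comm
  rintro ⟨a, ha⟩ ⟨b, hb⟩
  apply Subtype.ext
  apply Subtype.ext
  apply Subtype.ext
  ext i
  change ((a : ↥(alternatingGroup α)) : Perm α) (((b : ↥(alternatingGroup α)) : Perm α) i) =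
      ((b : ↥(alternatingGroup α)) : Perm α) (((a : ↥(alternatingGroup α)) : Perm α) i)
  have h1 := comm_apply s a.2 i
  have h2 := comm_apply s b.2 i
  rcases ha i with h | h <;> rcases hb i with h' | h'
  · rw [h, h', h]
  · rw [h, h', ← h1, h]
  · rw [h, h', ← h2, h', h]
  · rw [h, h', ← h1, ← h2, h, h']

/-- the product of two 2-cycles of `s` -/
def pr (s : Perm α) (i j : α) : Perm α := swap i (s i) * swap j (s j)

omit [Fintype α] in
theorem pr_apply {i j : α} (hi : s i ≠ i) (hj : s j ≠ j) (h1 : j ≠ i) (h2 : j ≠ s i) (hs : ∀ i, s (s i) = i) (u : α) :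
    pr s i j u = if u = i ∨ u = s i ∨ u = j ∨ u = s j then s u else u := by
  have h3 : s j ≠ i := fun h => h2 (by rw [← h, hs])
  have h4 : s j ≠ s i := fun h => h1 (s.injective h)
  unfold pr
  rw [Perm.mul_apply]
  by_cases hu1 : u = i
  · subst hu1
    rw [swap_apply_of_ne_of_ne h1.symm h3.symm, swap_apply_left, if_pos (Or.inl rfl)]
  by_cases hu2 : u = s i
  · subst hu2
    rw [swap_apply_of_ne_of_ne h2.symm h4.symm, swap_apply_right, if_pos (Or.inr (Or.inl rfl)), hs]
  by_cases hu3 : u = j
  · subst hu3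
    rw [swap_apply_left, swap_apply_of_ne_of_ne h3 h4, if_pos (by simp)]
  by_cases hu4 : u = s j
  · subst hu4
    rw [swap_apply_right, swap_apply_of_ne_of_ne h1 h2, if_pos (by simp), hs]
  rw [swap_apply_of_ne_of_ne hu3 hu4, swap_apply_of_ne_of_ne hu1 hu2, if_neg (by tauto)]

/-- `pr s i j` as an element of the centralizer -/
def prc {i j : α} (hi : s i ≠ i) (hj : s j ≠ j) (h1 : j ≠ i) (h2 : j ≠ s i) (hs : ∀ i, s (s i) = i) : ↥(CA s) :=
  ⟨⟨pr s i j, by
    rw [mem_alternatingGroup, pr, Perm.sign_mul, sign_swap hi.symm, sign_swap hj.symm]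
    decide⟩, by
    rw [mem_CA]
    intro u
    change s (pr s i j u) = pr s i j (s u)
    rw [pr_apply hi hj h1 h2 hs, pr_apply hi hj h1 h2 hs]
    have e : ∀ v w : α, s v = w ↔ v = s w := fun v w => ⟨fun h => by rw [← h, hs], fun h => by rw [h, hs]⟩
    have h5 : (s u = i ∨ s u = s i ∨ s u = j ∨ s u = s j) ↔ (u = i ∨ u = s i ∨ u = j ∨ u = s j) := by
      rw [e, e, e, e, hs, hs]
      tauto
    by_cases h : u = i ∨ u = s i ∨ u = j ∨ u = s j
    · rw [if_pos h, if_pos (h5.2 h)]
    · rw [if_neg h, if_neg (fun h' => h (h5.1 h'))]⟩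

theorem prc_mem {i j : α} (hi : s i ≠ i) (hj : s j ≠ j) (h1 : j ≠ i) (h2 : j ≠ s i) (hs : ∀ i, s (s i) = i) :
    prc hi hj h1 h2 hs ∈ NN hs := by
  intro u
  change pr s i j u = u ∨ pr s i j u = s u
  rw [pr_apply hi hj h1 h2 hs]
  split_ifs
  · exact Or.inr rfl
  · exact Or.inl rfl

/-- a component centralizes the moved points -/
theorem le_ker (hs : ∀ i, s (s i) = i) {A : Subgroup ↥(CA s)} (hA : IsComponent A) : A ≤ (rho s).ker := by
  have hAA : ⁅A, A⁆ = A := component_commutator_self hA
  rcases Nat.lt_or_ge 4 (Fintype.card (Mv s)) with h4 | h4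
  · -- `A` permutes no 2-cycle
    have hN := normal_NN hs
    have hc : ⁅A, NN hs⁆ = ⊥ := component_commutator_solvable hA (by
      rw [normalizer_eq_top]; exact le_top) (solvable_NN hs)
    have hAM : A ≤ MM hs := by
      intro a ha i hi
      by_contra hcon
      push Not at hcon
      obtain ⟨hc1, hc2⟩ := hcon
      -- another orbit
      obtain ⟨j, hj, hjn⟩ : ∃ j : α, s j ≠ j ∧ j ∉ ({i, s i, ((a : ↥(alternatingGroup α)) : Perm α) i,
          s (((a : ↥(alternatingGroup α)) : Perm α) i)} : Finset α) := by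
        by_contra hno
        push Not at hno
        have hle : Fintype.card (Mv s) ≤ 4 := by
          rw [Fintype.card_subtype]
          refine (Finset.card_le_card (t := ({i, s i, ((a : ↥(alternatingGroup α)) : Perm α) i,
            s (((a : ↥(alternatingGroup α)) : Perm α) i)} : Finset α)) ?_).trans Finset.card_le_four
          intro j hj
          rw [Finset.mem_filter] at hj
          exact hno j hj.2
        omega
      simp only [Finset.mem_insert, Finset.mem_singleton, not_or] at hjn
      obtain ⟨h1, h2, h3, h5⟩ := hjn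
      have hcomm : a * prc hi hj h1 h2 hs = prc hi hj h1 h2 hs * a := by
        have h6 := commutator_eq_bot_iff_le_centralizer.1 hc ha
        exact (mem_centralizer_iff.1 h6 _ (prc_mem hi hj h1 h2 hs)).symm
      have h7 := congrArg (fun c : ↥(CA s) => ((c : ↥(alternatingGroup α)) : Perm α) i) hcomm
      change ((a : ↥(alternatingGroup α)) : Perm α) (pr s i j i) =
        pr s i j (((a : ↥(alternatingGroup α)) : Perm α) i) at h7
      rw [pr_apply hi hj h1 h2 hs, pr_apply hi hj h1 h2 hs, if_pos (Or.inl rfl), ← comm_apply s a.2 i,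
        if_neg] at h7
      · exact (moved_iff s a.2 i).2 hi h7
      · rintro (h | h | h | h)
        · exact hc1 h
        · exact hc2 h
        · exact h3 h.symm
        · exact h5 (by rw [h, hs])
    rw [← hAA, commutator_le]
    intro a ha b hb
    rw [MonoidHom.mem_ker, map_commutatorElement, commutatorElement_eq_one_iff_mul_comm]
    ext ⟨i, hi⟩
    exact comm_MM hs (hAM ha) (hAM hb) hi
  · refine le_ker_of_solvable hAA ?_
    have := solvable_perm_four h4
    infer_instance

/-- **components of the centralizer in an alternating group of an involution of the symmetric group** -/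
theorem comp_eq (hs : ∀ i, s (s i) = i) {A : Subgroup ↥(CA s)} (hA : IsComponent A) :
    A = (rho s).ker ∧ 5 ≤ Fintype.card (Fx s) := by
  have hle := le_ker hs hA
  have hB : IsComponent (A.subgroupOf (rho s).ker) := isComponent_subgroupOf hle hA
  have h5 : 5 ≤ Fintype.card (Fx s) := by
    by_contra hlt
    have h1 : Group.IsSolvable (Perm (Fx s)) := solvable_perm_four (by omega)
    have h2 : Group.IsSolvable ↥(alternatingGroup (Fx s)) := inferInstance
    have h3 : Group.IsSolvable ↥(rho s).ker :=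
      Group.isSolvable_of_surjective (f := (kerEquiv s).toMonoidHom) (kerEquiv s).surjective
    exact quasisimple_not_isSolvable hB.2 inferInstance
  refine ⟨?_, h5⟩
  have hs1 : IsSimpleGroup ↥(alternatingGroup (Fx s)) := alternatingGroup.isSimpleGroup (by
    rw [Nat.card_eq_fintype_card]; exact h5)
  have hs2 : IsSimpleGroup ↥(rho s).ker := (MulEquiv.isSimpleGroup_congr (kerEquiv s)).1 hs1
  rcases hB.1.eq_bot_or_top_of_isSimpleGroup hs2 with h | h
  · exact absurd h (component_ne_bot hB)
  · exact le_antisymm hle (subgroupOf_eq_top.1 h)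

/-- the product of two transpositions commuting with `s` -/
def qr (s : Perm α) (i j : α) : Perm α := swap i j * swap (s i) (s j)

omit [Fintype α] in
theorem qr_apply {i j : α} (hi : s i ≠ i) (hj : s j ≠ j) (h1 : j ≠ i) (h2 : j ≠ s i) (hs : ∀ i, s (s i) = i) (u : α) :
    qr s i j u = if u = i then j else if u = j then i else if u = s i then s j else if u = s j then s i else u := by
  have h3 : s j ≠ i := fun h => h2 (by rw [← h, hs])
  have h4 : s j ≠ s i := fun h => h1 (s.injective h)
  unfold qr
  rw [Perm.mul_apply]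
  by_cases hu1 : u = i
  · subst hu1
    rw [swap_apply_of_ne_of_ne hi.symm h3.symm, swap_apply_left, if_pos rfl]
  by_cases hu3 : u = j
  · subst hu3
    rw [swap_apply_of_ne_of_ne h2 hj.symm, swap_apply_right, if_neg hu1, if_pos rfl]
  by_cases hu2 : u = s i
  · subst hu2
    rw [swap_apply_left, swap_apply_of_ne_of_ne h3 hj, if_neg hu1, if_neg hu3, if_pos rfl]
  by_cases hu4 : u = s j
  · subst hu4
    rw [swap_apply_right, swap_apply_of_ne_of_ne hi h2.symm, if_neg hu1, if_neg hu3, if_neg hu2, if_pos rfl]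
  rw [swap_apply_of_ne_of_ne hu2 hu4, swap_apply_of_ne_of_ne hu1 hu3, if_neg hu1, if_neg hu3, if_neg hu2, if_neg hu4]

/-- `qr s i j` as an element of the centralizer -/
def qrc {i j : α} (hi : s i ≠ i) (hj : s j ≠ j) (h1 : j ≠ i) (h2 : j ≠ s i) (hs : ∀ i, s (s i) = i) : ↥(CA s) :=
  ⟨⟨qr s i j, by
    have h4 : s j ≠ s i := fun h => h1 (s.injective h)
    rw [mem_alternatingGroup, qr, Perm.sign_mul, sign_swap h1.symm, sign_swap h4.symm]
    decide⟩, by
    rw [mem_CA]
    intro u
    change s (qr s i j u) = qr s i j (s u)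
    have h3 : s j ≠ i := fun h => h2 (by rw [← h, hs])
    have h4 : s j ≠ s i := fun h => h1 (s.injective h)
    rw [qr_apply hi hj h1 h2 hs, qr_apply hi hj h1 h2 hs]
    have e : ∀ v w : α, s v = w ↔ v = s w := fun v w => ⟨fun h => by rw [← h, hs], fun h => by rw [h, hs]⟩
    by_cases hu1 : u = i
    · subst hu1
      rw [if_pos rfl, if_neg hi, if_neg (fun h => h2 h.symm), if_pos rfl]
    by_cases hu3 : u = j
    · subst hu3
      rw [if_neg hu1, if_pos rfl, if_neg h3, if_neg hj, if_neg h4, if_pos rfl]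
    by_cases hu2 : u = s i
    · subst hu2
      rw [if_neg hu1, if_neg hu3, if_pos rfl, if_pos (hs i), hs]
    by_cases hu4 : u = s j
    · subst hu4
      rw [if_neg hu1, if_neg hu3, if_neg hu2, if_pos rfl, hs, hs, if_neg h1, if_pos rfl]
    rw [if_neg hu1, if_neg hu3, if_neg hu2, if_neg hu4, if_neg (fun h => hu2 ((e _ _).1 h)),
      if_neg (fun h => hu4 ((e _ _).1 h)), if_neg (fun h => hu1 (s.injective h)),
      if_neg (fun h => hu3 (s.injective h))]⟩

/-- an element fixing the fixed points of `s` centralizes `ker (rho s)` -/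
theorem comm_of_fix {c u : ↥(CA s)} (hc : ∀ i, s i = i → ((c : ↥(alternatingGroup α)) : Perm α) i = i)
    (hu : u ∈ (rho s).ker) : u * c = c * u := by
  apply Subtype.ext
  apply Subtype.ext
  ext p
  change ((u : ↥(alternatingGroup α)) : Perm α) (((c : ↥(alternatingGroup α)) : Perm α) p) =
    ((c : ↥(alternatingGroup α)) : Perm α) (((u : ↥(alternatingGroup α)) : Perm α) p)
  rw [mem_ker] at hu
  by_cases hp : s p = p
  · rw [hc p hp, hc]
    rw [comm_apply s u.2, hp]
  · rw [hu p hp, hu]
    exact (moved_iff s c.2 p).2 hp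

/-- **a four-group centralizing `A(fixed points)`** -/
theorem exists_four (hs : ∀ i, s (s i) = i) (h3 : 2 < Fintype.card (Mv s)) : ∃ a b : ↥(CA s),
    (∀ u ∈ (rho s).ker, u * a = a * u) ∧ (∀ u ∈ (rho s).ker, u * b = b * u) ∧ orderOf a = 2 ∧ orderOf b = 2 ∧
      a ≠ b ∧ a * b = b * a := by
  have hne : Nonempty (Mv s) := Fintype.card_pos_iff.1 (by omega)
  obtain ⟨⟨i, hi⟩⟩ := hne
  obtain ⟨j, hj, hjn⟩ : ∃ j : α, s j ≠ j ∧ j ∉ ({i, s i} : Finset α) := by
    by_contra hno
    push Not at hno
    have hle : Fintype.card (Mv s) ≤ 2 := by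
      rw [Fintype.card_subtype]
      refine (Finset.card_le_card (t := ({i, s i} : Finset α)) ?_).trans Finset.card_le_two
      intro j hj
      rw [Finset.mem_filter] at hj
      exact hno j hj.2
    omega
  simp only [Finset.mem_insert, Finset.mem_singleton, not_or] at hjn
  obtain ⟨h1, h2⟩ := hjn
  have h3 : s j ≠ i := fun h => h2 (by rw [← h, hs])
  have h4 : s j ≠ s i := fun h => h1 (s.injective h)
  refine ⟨prc hi hj h1 h2 hs, qrc hi hj h1 h2 hs, fun u hu => comm_of_fix ?_ hu, fun u hu => comm_of_fix ?_ hu,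
    ?_, ?_, ?_, ?_⟩
  · intro p hp
    change pr s i j p = p
    rw [pr_apply hi hj h1 h2 hs]
    split_ifs
    · exact hp
    · rfl
  · intro p hp
    change qr s i j p = p
    rw [qr_apply hi hj h1 h2 hs]
    rw [if_neg, if_neg, if_neg, if_neg]
    · rintro rfl
      exact hj (s.injective hp)
    · rintro rfl
      exact hi (s.injective hp)
    · rintro rfl
      exact hj hp
    · rintro rfl
      exact hi hp
  · refine orderOf_eq_prime ?_ ?_
    · rw [pow_two]
      apply Subtype.ext
      apply Subtype.ext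
      ext p
      change pr s i j (pr s i j p) = p
      rw [pr_apply hi hj h1 h2 hs, pr_apply hi hj h1 h2 hs p]
      have e : ∀ v w : α, s v = w ↔ v = s w := fun v w => ⟨fun h => by rw [← h, hs], fun h => by rw [h, hs]⟩
      by_cases h : p = i ∨ p = s i ∨ p = j ∨ p = s j
      · rw [if_pos h, if_pos, hs]
        rw [e, e, e, e, hs, hs]
        tauto
      · rw [if_neg h, if_neg h]
    · intro h
      have h5 := congrArg (fun c : ↥(CA s) => ((c : ↥(alternatingGroup α)) : Perm α) i) h
      change pr s i j i = i at h5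
      rw [pr_apply hi hj h1 h2 hs, if_pos (Or.inl rfl)] at h5
      exact hi h5
  · refine orderOf_eq_prime ?_ ?_
    · rw [pow_two]
      apply Subtype.ext
      apply Subtype.ext
      ext p
      change qr s i j (qr s i j p) = p
      rw [qr_apply hi hj h1 h2 hs, qr_apply hi hj h1 h2 hs p]
      by_cases hu1 : p = i
      · subst hu1
        rw [if_pos rfl, if_neg h1, if_pos rfl]
      by_cases hu3 : p = j
      · subst hu3
        rw [if_neg hu1, if_pos rfl, if_pos rfl]
      by_cases hu2 : p = s i
      · subst hu2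
        rw [if_neg hu1, if_neg hu3, if_pos rfl, if_neg h3, if_neg hj, if_neg h4, if_pos rfl]
      by_cases hu4 : p = s j
      · subst hu4
        rw [if_neg hu1, if_neg hu3, if_neg hu2, if_pos rfl, if_neg hi, if_neg (fun h => h2 h.symm), if_pos rfl]
      rw [if_neg hu1, if_neg hu3, if_neg hu2, if_neg hu4, if_neg hu1, if_neg hu3, if_neg hu2, if_neg hu4]
    · intro h
      have h5 := congrArg (fun c : ↥(CA s) => ((c : ↥(alternatingGroup α)) : Perm α) i) h
      change qr s i j i = i at h5
      rw [qr_apply hi hj h1 h2 hs, if_pos rfl] at h5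
      exact h1 h5
  · intro h
    have h5 := congrArg (fun c : ↥(CA s) => ((c : ↥(alternatingGroup α)) : Perm α) i) h
    change pr s i j i = qr s i j i at h5
    rw [pr_apply hi hj h1 h2 hs, if_pos (Or.inl rfl), qr_apply hi hj h1 h2 hs, if_pos rfl] at h5
    exact h2 h5.symm
  · apply Subtype.ext
    apply Subtype.ext
    ext p
    change pr s i j (qr s i j p) = qr s i j (pr s i j p)
    rw [pr_apply hi hj h1 h2 hs, pr_apply hi hj h1 h2 hs p]
    by_cases h : p = i ∨ p = s i ∨ p = j ∨ p = s j
    · have h5 : s (qr s i j p) = qr s i j (s p) := comm_apply s (qrc hi hj h1 h2 hs).2 p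
      rw [if_pos h, if_pos, h5]
      rw [qr_apply hi hj h1 h2 hs]
      split_ifs
      all_goals tauto
    · rw [if_neg h, if_neg]
      have h6 : qr s i j p = p := by
        rw [qr_apply hi hj h1 h2 hs]
        rw [if_neg (by tauto), if_neg (by tauto), if_neg (by tauto), if_neg (by tauto)]
      rw [h6]
      exact h

end perm

/-! ### automorphisms -/

/-- an even permutation commuting with all even permutations is trivial -/
theorem eq_one_of_comm {m : ℕ} (hm : 4 ≤ m) {t : Perm (Fin m)}
    (ht : ∀ a : ↥(alternatingGroup (Fin m)), t * (a : Perm (Fin m)) * t⁻¹ = a) : t = 1 := by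
  by_contra hne
  obtain ⟨i, hi⟩ : ∃ i, t i ≠ i := by
    by_contra hcon
    push Not at hcon
    exact hne (Equiv.ext hcon)
  have hex : ∀ S : Finset (Fin m), S.card < 4 → ∃ j, j ∉ S := by
    intro S hS
    by_contra hno
    push Not at hno
    have h1 : (Finset.univ : Finset (Fin m)) ⊆ S := fun j _ => hno j
    have h2 := Finset.card_le_card h1
    rw [Finset.card_fin] at h2
    omega
  obtain ⟨j, hj⟩ := hex {i, t i} (lt_of_le_of_lt Finset.card_le_two (by norm_num))
  obtain ⟨k, hk⟩ := hex {i, t i, j} (lt_of_le_of_lt Finset.card_le_three (by norm_num))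
  simp only [Finset.mem_insert, Finset.mem_singleton, not_or] at hj hk
  obtain ⟨hj, hj'⟩ := hj
  obtain ⟨hk, hk', hjk⟩ := hk
  have hev : Equiv.swap i j * Equiv.swap i k ∈ alternatingGroup (Fin m) := by
    rw [Equiv.Perm.mem_alternatingGroup, Equiv.Perm.sign_mul, Equiv.Perm.sign_swap (Ne.symm hj),
      Equiv.Perm.sign_swap (Ne.symm hk)]
    decide
  have h1 := ht ⟨_, hev⟩
  rw [mul_inv_eq_iff_eq_mul] at h1
  have h2 := congrArg (fun p : Equiv.Perm (Fin m) => p i) h1
  change t (Equiv.swap i j (Equiv.swap i k i)) = Equiv.swap i j (Equiv.swap i k (t i)) at h2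
  rw [Equiv.swap_apply_left, Equiv.swap_apply_of_ne_of_ne hk hjk,
    Equiv.swap_apply_of_ne_of_ne hi (Ne.symm hk'), Equiv.swap_apply_of_ne_of_ne hi (Ne.symm hj')] at h2
  exact hk (t.injective h2)

/-- automorphisms of alternating groups are induced by permutations (degree 6: if some element of order three is
fixed) -/
theorem exists_conj {m : ℕ} (hm : 5 ≤ m) (x : MulAut ↥(alternatingGroup (Fin m)))
    (h3 : m = 6 → ∃ a : ↥(alternatingGroup (Fin m)), a * a * a = 1 ∧ a ≠ 1 ∧ x a = a) :
    ∃ σ : Perm (Fin m), ∀ a : ↥(alternatingGroup (Fin m)), (x a : Perm (Fin m)) = σ * a * σ⁻¹ := by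
  rcases Nat.lt_or_ge 6 m with h | h
  · obtain ⟨l, rfl⟩ := Nat.exists_eq_add_of_le' (show 2 ≤ m by omega)
    exact StandardComponent.AltAut.exists_conj (by omega) x
  · interval_cases m
    · exact OddCyclic.EmpFFAlt.exists_conj x
    · obtain ⟨a, ha, ha1, hxa⟩ := h3 rfl
      by_cases h : StdAlt.Six.mv a = 3
      · exact StdAlt.Six.ns_of_mv_three h (by rw [hxa]; exact h)
      · exact StdAlt.Six.ns_of_mv_six ha ha1 h (by rw [hxa]; exact h)

/-- the permutation inducing an involutory automorphism -/
theorem exists_perm {m : ℕ} (hm : 5 ≤ m) {x : MulAut ↥(alternatingGroup (Fin m))} (hxx : x * x = 1)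
    (h3 : m = 6 → ∃ a : ↥(alternatingGroup (Fin m)), a * a * a = 1 ∧ a ≠ 1 ∧ x a = a) :
    ∃ s : Perm (Fin m), (∀ i, s (s i) = i) ∧ fixedSubgroup x = CA s ∧ (s = 1 → x = 1) := by
  obtain ⟨s, hs⟩ := exists_conj hm x h3
  have hss : s * s = 1 := by
    apply eq_one_of_comm (by omega)
    intro a
    have h1 : (((x * x) a : ↥(alternatingGroup (Fin m))) : Equiv.Perm (Fin m)) = a := by rw [hxx]; rfl
    rw [MulAut.mul_apply, hs, hs] at h1
    refine Eq.trans ?_ h1
    group
  refine ⟨s, fun i => congrArg (fun p : Perm (Fin m) => p i) hss, ?_, ?_⟩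
  · ext a
    constructor
    · intro ha
      have ha' : x a = a := ha
      refine mem_subgroupOf.2 (mem_centralizer_singleton_iff.2 ?_)
      have h1 := hs a
      rw [ha', eq_mul_inv_iff_mul_eq] at h1
      exact h1
    · intro ha
      have ha' := mem_centralizer_singleton_iff.1 (mem_subgroupOf.1 ha)
      change x a = a
      apply Subtype.ext
      rw [hs, ← ha', mul_inv_cancel_right]
  · rintro rfl
    ext a
    rw [hs]
    simp

/-- a nonsolvable subgroup of `A_6` contains an element of order three -/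
theorem exists_three {m : ℕ} (hm : m = 6) {A : Subgroup ↥(alternatingGroup (Fin m))} (hA : ¬ Group.IsSolvable ↥A) :
    ∃ a ∈ A, a * a * a = 1 ∧ a ≠ 1 := by
  subst hm
  have h3 : 3 ∣ Nat.card ↥A := by
    by_contra h3
    apply hA
    have h1 : Nat.card ↥A ∣ 360 := by
      have h2 : Nat.card ↥(alternatingGroup (Fin 6)) = 360 := by
        have := nat_card_alternatingGroup (α := Fin 6)
        rw [Nat.card_eq_fintype_card (α := Fin 6), Fintype.card_fin] at this
        rw [this]
        decide
      rw [← h2]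
      exact card_subgroup_dvd_card A
    have h2 : Nat.card ↥A ∣ 40 := by
      have h4 : Nat.Coprime (Nat.card ↥A) 9 := by
        rw [show 9 = 3 ^ 2 from rfl]
        exact Nat.Coprime.pow_right 2 ((Nat.Prime.coprime_iff_not_dvd Nat.prime_three).2 h3).symm
      exact h4.dvd_of_dvd_mul_right (show Nat.card ↥A ∣ 40 * 9 from h1)
    have h5 : ∃ a b : ℕ, Nat.card ↥A = 2 ^ a * 5 ^ b := by
      have h6 : Nat.card ↥A ≤ 40 := Nat.le_of_dvd (by norm_num) h2
      set n := Nat.card ↥A
      interval_cases n
      all_goals first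
        | exact absurd h2 (by decide)
        | exact ⟨0, 0, rfl⟩
        | exact ⟨1, 0, rfl⟩
        | exact ⟨2, 0, rfl⟩
        | exact ⟨3, 0, rfl⟩
        | exact ⟨0, 1, rfl⟩
        | exact ⟨1, 1, rfl⟩
        | exact ⟨2, 1, rfl⟩
        | exact ⟨3, 1, rfl⟩
    obtain ⟨a, b, hab⟩ := h5
    exact Cfsg.Agent.S0144.result 2 5 a b Nat.prime_two Nat.prime_five hab
  have : Fact (Nat.Prime 3) := ⟨Nat.prime_three⟩
  obtain ⟨a, ha⟩ := exists_prime_orderOf_dvd_card' 3 h3
  refine ⟨a, a.2, ?_, ?_⟩
  · have h1 : a ^ 3 = 1 := by rw [← ha]; exact pow_orderOf_eq_one a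
    have h2 := congrArg Subtype.val h1
    rw [pow_succ, pow_two] at h2
    exact h2
  · intro h
    have h1 : a = 1 := Subtype.ext h
    rw [h1, orderOf_one] at ha
    omega

/-- **Components of the centralizer of an involutory automorphism of an alternating group.** -/
theorem table {m : ℕ} (hm : 5 ≤ m) {X : Type*} [Group X] (e : X ≃* ↥(alternatingGroup (Fin m))) {x : MulAut X}
    (hxx : x * x = 1) (hx1 : x ≠ 1) {A : Subgroup ↥(fixedSubgroup x)} (hA : IsComponent A) :
    ∃ n k : ℕ, 5 ≤ n ∧ 1 ≤ k ∧ m = n + 2 * k ∧ Nonempty (↥A ≃* ↥(alternatingGroup (Fin n))) ∧ A.Normal ∧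
      (2 ≤ k → ∃ a b : ↥(fixedSubgroup x), a ∈ centralizer (A : Set ↥(fixedSubgroup x)) ∧
        b ∈ centralizer (A : Set ↥(fixedSubgroup x)) ∧ orderOf a = 2 ∧ orderOf b = 2 ∧ a ≠ b ∧ a * b = b * a) := by
  classical
  set y : MulAut ↥(alternatingGroup (Fin m)) := (e.symm.trans x).trans e with hy
  have hy' : ∀ a, y a = e (x (e.symm a)) := fun a => rfl
  have hyy : y * y = 1 := by
    ext a
    rw [MulAut.mul_apply, hy', hy', e.symm_apply_apply]
    have h1 : x (x (e.symm a)) = e.symm a := by
      have := congrArg (fun f : MulAut X => f (e.symm a)) hxx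
      exact this
    rw [h1, e.apply_symm_apply]
    rfl
  have hfix : (fixedSubgroup x).map e.toMonoidHom = fixedSubgroup y := by
    ext a
    constructor
    · rintro ⟨b, hb, rfl⟩
      change y (e b) = e b
      rw [hy', e.symm_apply_apply, show x b = b from hb]
    · intro ha
      refine ⟨e.symm a, ?_, e.apply_symm_apply a⟩
      change x (e.symm a) = e.symm a
      have h1 : y a = a := ha
      rw [hy'] at h1
      exact e.injective (by rw [e.apply_symm_apply]; exact h1)
  -- degree six
  have h3 : m = 6 → ∃ a : ↥(alternatingGroup (Fin m)), a * a * a = 1 ∧ a ≠ 1 ∧ y a = a := by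
    intro h6
    let B : Subgroup ↥(alternatingGroup (Fin m)) := (A.map (fixedSubgroup x).subtype).map e.toMonoidHom
    have eB : ↥A ≃* ↥B := (A.equivMapOfInjective _ (fixedSubgroup x).subtype_injective).trans (e.subgroupMap _)
    have hB : ¬ Group.IsSolvable ↥B := by
      intro h
      exact quasisimple_not_isSolvable hA.2
        (Group.isSolvable_of_isSolvable_injective (f := eB.toMonoidHom) eB.injective)
    obtain ⟨a, haB, ha, ha1⟩ := exists_three h6 hB
    refine ⟨a, ha, ha1, ?_⟩
    have h7 : B ≤ fixedSubgroup y := by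
      rw [← hfix]
      exact Subgroup.map_mono (map_subtype_le A)
    exact h7 haB
  obtain ⟨s, hs, hfs, hs1⟩ := exists_perm hm hyy h3
  have hs1' : s ≠ 1 := by
    intro h
    apply hx1
    ext a
    have h1 := congrArg (fun f : MulAut ↥(alternatingGroup (Fin m)) => f (e a)) (hs1 h)
    change y (e a) = e a at h1
    rw [hy', e.symm_apply_apply] at h1
    exact e.injective h1
  let φ : ↥(fixedSubgroup x) ≃* ↥(CA s) := (e.subgroupMap (fixedSubgroup x)).trans
    (MulEquiv.subgroupCongr (hfix.trans hfs))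
  have hB := isComponent_map_equiv φ hA
  obtain ⟨h1, h5⟩ := comp_eq hs hB
  have hev := even_moved s (Equiv.ext hs)
  obtain ⟨k, hk⟩ := hev
  have hsp := card_split s
  rw [Fintype.card_fin] at hsp
  have hpos : 0 < Fintype.card (Mv s) := by
    rw [Fintype.card_pos_iff]
    by_contra hne
    rw [not_nonempty_iff] at hne
    apply hs1'
    ext i
    by_contra hi
    exact hne.elim ⟨i, fun h => hi (by rw [h]; rfl)⟩
  refine ⟨Fintype.card (Fx s), k, h5, by omega, by omega, ?_, ?_, ?_⟩
  · exact ⟨((φ.subgroupMap A).trans (MulEquiv.subgroupCongr h1)).trans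
      ((kerEquiv s).symm.trans (Fintype.equivFin (Fx s)).altCongrHom)⟩
  · have h2 : A = (rho s).ker.comap φ.toMonoidHom := by
      rw [← h1, comap_map_eq_self_of_injective φ.injective]
    rw [h2]
    infer_instance
  · intro hk2
    obtain ⟨a, b, ha, hb, hoa, hob, hab, hcomm⟩ := exists_four hs (by omega)
    have hin : ∀ c : ↥(CA s), (∀ u ∈ (rho s).ker, u * c = c * u) →
        φ.symm c ∈ centralizer (A : Set ↥(fixedSubgroup x)) := by
      intro c hc
      rw [mem_centralizer_iff]
      intro u hu
      have h2 := hc (φ u) (by rw [← h1]; exact mem_map_of_mem _ hu)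
      apply φ.injective
      rw [map_mul, map_mul, φ.apply_symm_apply]
      exact h2
    refine ⟨φ.symm a, φ.symm b, hin a ha, hin b hb, ?_, ?_, fun h => hab (φ.symm.injective h), ?_⟩
    · rw [← hoa]; exact φ.symm.orderOf_eq a
    · rw [← hob]; exact φ.symm.orderOf_eq b
    · rw [← map_mul, hcomm, map_mul]

end Cfsg.Agent.H284.AltComp
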