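import Cfsg.Agent.S1347
import Cfsg.Agent.S1754
import Cfsg.Agent.S0205
import Cfsg.Agent.Cit.PieceEnd
import Cfsg.Agent.SignalizersComponents.Components
import Cfsg.Prelude.Def_EvenType

/-!
# Standard subgroups as components of fixed point groups (helper284)

* `comp_fix` : `X ⊴ G` with `C_G(X) = 1`, `A ≤ X` standard in `G`, `t` an involution of `C_G(A)`, `x` the automorphism of
  `X` induced by `t`: `x * x = 1`, `x ≠ 1` and `A` is a component of the group of fixed points of `x`;
* `fstd` : if `F*(G)` is simple, nonabelian, then `A ≤ F*(G)`, so that `comp_fix` applies.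
-/

set_option autoImplicit false

namespace Cfsg.Agent.H284.FStd

open Subgroup Cfsg Cfsg.Agent.SignalizersComponents.Components

section comp

variable {G : Type*} [Group G] {X A : Subgroup G} [hX : X.Normal]

/-- `A` as a subgroup of `C_X(t)` -/
def BB (X A : Subgroup G) [X.Normal] (t : G) : Subgroup ↥(fixedSubgroup (MulAut.conjNormal t : MulAut ↥X)) :=
  (A.subgroupOf X).subgroupOf (fixedSubgroup (MulAut.conjNormal t : MulAut ↥X))

theorem mem_fix {t : G} {y : ↥X} : y ∈ fixedSubgroup (MulAut.conjNormal t : MulAut ↥X) ↔ t * y = y * t := by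
  constructor
  · intro h
    have h1 : (MulAut.conjNormal t : MulAut ↥X) y = y := h
    have h2 := congrArg Subtype.val h1
    rw [MulAut.conjNormal_apply] at h2
    exact mul_inv_eq_iff_eq_mul.1 h2
  · intro h
    change (MulAut.conjNormal t : MulAut ↥X) y = y
    apply Subtype.ext
    rw [MulAut.conjNormal_apply, h, mul_inv_cancel_right]

theorem le_fix {t : G} (ht : t ∈ centralizer (A : Set G)) :
    A.subgroupOf X ≤ fixedSubgroup (MulAut.conjNormal t : MulAut ↥X) := by
  intro y hy
  rw [mem_fix]
  exact (mem_centralizer_iff.1 ht (y : G) (mem_subgroupOf.1 hy)).symm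

/-- `BB ≃* A` -/
noncomputable def BBequiv (hAX : A ≤ X) {t : G} (ht : t ∈ centralizer (A : Set G)) : ↥(BB X A t) ≃* ↥A :=
  (subgroupOfEquivOfLe (le_fix ht)).trans (subgroupOfEquivOfLe hAX)

/-- `C_X(t)` in `C_G(t)` -/
def ff (X : Subgroup G) [X.Normal] (t : G) :
    ↥(fixedSubgroup (MulAut.conjNormal t : MulAut ↥X)) →* ↥(centralizer ({t} : Set G)) where
  toFun y := ⟨((y : ↥X) : G), by
    rw [mem_centralizer_singleton_iff]
    exact (mem_fix.1 y.2).symm⟩
  map_one' := rfl
  map_mul' _ _ := rfl

theorem comap_ff (t : G) : (A.subgroupOf (centralizer ({t} : Set G))).comap (ff X t) = BB X A t := by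
  ext y
  rfl

/-- **A standard subgroup as a component of `C_X(t)`.** -/
theorem comp_fix [Finite G] (hc : centralizer (X : Set G) = ⊥) (hA : IsStandardSubgroup A) (hAX : A ≤ X) {t : G}
    (ht : orderOf t = 2) (htA : t ∈ centralizer (A : Set G)) :
    (MulAut.conjNormal t : MulAut ↥X) * MulAut.conjNormal t = 1 ∧ (MulAut.conjNormal t : MulAut ↥X) ≠ 1 ∧
      IsComponent (BB X A t) := by
  refine ⟨?_, ?_, ?_, ?_⟩
  · rw [← map_mul, ← pow_two, ← ht, pow_orderOf_eq_one, map_one]
  · intro h
    have h1 : t ∈ centralizer (X : Set G) := by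
      rw [mem_centralizer_iff]
      intro y hy
      have h2 := congrArg (fun f : MulAut ↥X => ((f ⟨y, hy⟩ : ↥X) : G)) h
      change (((MulAut.conjNormal t : MulAut ↥X) ⟨y, hy⟩ : ↥X) : G) = y at h2
      rw [MulAut.conjNormal_apply] at h2
      exact (mul_inv_eq_iff_eq_mul.1 h2).symm
    rw [hc, mem_bot] at h1
    rw [h1, orderOf_one] at ht
    omega
  · have h1 := (S1754.result A hA t ht htA).2.1
    rw [← comap_ff]
    exact h1.comap _
  · exact isQuasisimple_of_mulEquiv (BBequiv hAX htA).symm hA.1

end comp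

/-- `O(G) = 1` if `F*(G)` is simple, nonabelian -/
theorem core_eq_bot {G : Type*} [Group G] [Finite G] (hs : IsSimpleGroup ↥(generalizedFittingSubgroup G))
    (hna : ¬ IsMulCommutative ↥(generalizedFittingSubgroup G)) : oddCore G = ⊥ := by
  by_contra hne
  have hn : (oddCore G).Normal := Lib.Cores.pPrimeCore_normal 2
  have h1 := Cit.PieceEnd.fstar_le_of_normal hs hna hne
  have h2 : Odd (Nat.card ↥(oddCore G)) := Nat.coprime_two_right.1 (Lib.Cores.pPrimeCore_coprime 2)
  have h3 : Odd (Nat.card ↥(generalizedFittingSubgroup G)) := h2.of_dvd_nat (card_dvd_of_le h1)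
  have h4 : Group.IsSolvable ↥(generalizedFittingSubgroup G) := S0205.result h3
  apply hna
  exact ⟨⟨IsSimpleGroup.comm_iff_isSolvable.2 h4⟩⟩

/-- **`F*(G)` simple: a standard subgroup lies in `F*(G)`.** -/
theorem fstd {G : Type*} [Group G] [Finite G] (hs : IsSimpleGroup ↥(generalizedFittingSubgroup G))
    (hna : ¬ IsMulCommutative ↥(generalizedFittingSubgroup G)) {A : Subgroup G} (hA : IsStandardSubgroup A) :
    A ≤ generalizedFittingSubgroup G ∧ centralizer (generalizedFittingSubgroup G : Set G) = ⊥ ∧
      ∃ t ∈ centralizer (A : Set G), orderOf t = 2 := by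
  have hcF := Cit.PieceEnd.centralizer_fstar hs hna
  have : Fact (Nat.Prime 2) := ⟨Nat.prime_two⟩
  obtain ⟨t, ht⟩ := exists_prime_orderOf_dvd_card' 2 hA.2.1.1.two_dvd
  have hto : orderOf (t : G) = 2 := by rw [Subgroup.orderOf_coe, ht]
  refine ⟨?_, hcF, t, t.2, hto⟩
  have hFn : (generalizedFittingSubgroup G).Normal := Lib.GenFitting.genFitting_normal
  have hlF : layer G ≤ generalizedFittingSubgroup G := by
    rw [Lib.GenFitting.genFitting_def]
    exact le_sup_left
  rcases S1347.result A hA (core_eq_bot hs hna) t hto t.2 with h | ⟨Y, hY, hYn, ⟨e⟩, hcomm, hinf, hsup, -⟩ | ⟨h, -⟩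
  · -- `A` normal: `A = F*(G)`
    exfalso
    have h1 : A ≠ ⊥ := by
      rintro rfl
      have := quasisimple_nontrivial hA.1
      exact not_nontrivial _ this
    have h2 := Cit.PieceEnd.fstar_le_of_normal hs hna h1
    have h3 : (t : G) ∈ centralizer (generalizedFittingSubgroup G : Set G) := by
      rw [mem_centralizer_iff]
      intro y hy
      exact mem_centralizer_iff.1 t.2 y (h2 hy)
    rw [hcF, mem_bot] at h3
    rw [h3, orderOf_one] at hto
    omega
  · -- `E(G)` is not simple
    exfalso
    have hYF : Y ≤ generalizedFittingSubgroup G := (le_sup_left.trans hsup.le).trans hlF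
    have hlne : layer G ≠ ⊥ := by
      intro h
      rw [h] at hsup
      have h1 : Y = ⊥ := le_bot_iff.1 (le_sup_left.trans hsup.le)
      rw [h1] at hY
      exact not_nontrivial _ hY.toNontrivial
    have hln : (layer G).Normal := layer_normal G
    have hFl : generalizedFittingSubgroup G ≤ layer G := Cit.PieceEnd.fstar_le_of_normal hs hna hlne
    -- `Y` is normal in `F*(G)`
    have hYn' : (Y.subgroupOf (generalizedFittingSubgroup G)).Normal := by
      rw [normal_subgroupOf_iff_le_normalizer hYF]
      refine hFl.trans ?_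
      rw [← hsup]
      refine sup_le le_normalizer ?_
      intro b hb
      rw [mem_normalizer_iff]
      intro a
      constructor
      · intro ha
        have := hcomm a ha b hb
        rw [← this, mul_inv_cancel_right]
        exact ha
      · intro ha
        have h1 := hcomm _ ha b⁻¹ (inv_mem hb)
        have h2 : b * a * b⁻¹ * b⁻¹ = b⁻¹ * (b * a * b⁻¹) := h1
        have h3 : b * a * b⁻¹ = a := by
          have h4 := congrArg (fun z => z * b) h2
          simp only [mul_assoc, inv_mul_cancel, mul_one, inv_mul_cancel_left] at h4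
          rw [mul_assoc]
          exact h4
        rwa [h3] at ha
    rcases hYn'.eq_bot_or_eq_top with h1 | h1
    · rw [subgroupOf_eq_bot] at h1
      have h2 : Y = ⊥ := by
        rw [disjoint_iff, inf_eq_left.2 hYF] at h1
        exact h1
      rw [h2] at hY
      exact not_nontrivial _ hY.toNontrivial
    · have h2 : generalizedFittingSubgroup G ≤ Y := subgroupOf_eq_top.1 h1
      have h3 : Y.map (MulAut.conj (t : G)).toMonoidHom ≤ Y := (le_sup_right.trans hsup.le).trans (hlF.trans h2)
      have h4 : Y.map (MulAut.conj (t : G)).toMonoidHom = ⊥ := by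
        rw [eq_bot_iff, ← hinf]
        exact le_inf h3 le_rfl
      rw [Subgroup.map_eq_bot_iff_of_injective _ (MulAut.conj (t : G)).injective] at h4
      rw [h4] at hY
      exact not_nontrivial _ hY.toNontrivial
  · exact h.trans hlF

end Cfsg.Agent.H284.FStd
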