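import Mathlib
import Cfsg.Prelude.Def_Local
/-!
# Perfect central extensions of `A₅` with a centre of odd order

`eq_one` : a perfect group, an abelian Sylow subgroup `P`: `Z(K) ∩ P = 1`;
`odd_a5` : `K` perfect, `K / Z(K) ≅ A₅`, `|Z(K)|` odd: `Z(K) = 1`.
-/

set_option autoImplicit false

namespace Cfsg.Agent.H284.OddA5

open Cfsg Subgroup

open scoped IsMulCommutative in
theorem eq_one {K : Type*} [Group K] [Finite K] (hK : _root_.commutator K = ⊤) {p : ℕ} [Fact p.Prime] (P : Sylow p K)
    (hcomm : IsMulCommutative P) {y : K} (hy : y ∈ (P : Subgroup K)) (hyc : y ∈ center K) : y = 1 := by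
  have key : ∀ (k : ℕ) (g₀ : K), g₀⁻¹ * y ^ k * g₀ ∈ (P : Subgroup K) → g₀⁻¹ * y ^ k * g₀ = y ^ k := by
    intro k g₀ _
    have h1 : Commute g₀ (y ^ k) := (show Commute g₀ y from mem_center_iff.1 hyc g₀).pow_right k
    rw [mul_assoc, ← h1.eq]; group
  have h1 := MonoidHom.transfer_eq_pow (MonoidHom.id (P : Subgroup K)) y key
  have h2 : MonoidHom.transfer (MonoidHom.id (P : Subgroup K)) y = 1 := by
    have h3 : _root_.commutator K ≤ (MonoidHom.transfer (MonoidHom.id (P : Subgroup K))).ker :=
      Abelianization.commutator_subset_ker _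
    exact h3 (hK ▸ mem_top y)
  rw [h2] at h1
  have h3 : y ^ (P : Subgroup K).index = 1 := (congrArg Subtype.val h1).symm
  obtain ⟨k, hk⟩ := P.isPGroup' ⟨y, hy⟩
  have h4 : y ^ p ^ k = 1 := congrArg Subtype.val hk
  rw [← orderOf_eq_one_iff]
  apply Nat.eq_one_of_dvd_coprimes (a := p ^ k) (b := (P : Subgroup K).index)
  · apply Nat.Coprime.pow_left
    rw [(Fact.out : p.Prime).coprime_iff_not_dvd]
    exact P.not_dvd_index
  · rwa [orderOf_dvd_iff_pow_eq_one]
  · rwa [orderOf_dvd_iff_pow_eq_one]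

theorem card_a5 : Nat.card ↥(alternatingGroup (Fin 5)) = 60 := by
  rw [nat_card_alternatingGroup, Nat.card_fin]; rfl

theorem odd_a5 {K : Type*} [Group K] [Finite K] (hK : _root_.commutator K = ⊤)
    (e : K ⧸ center K ≃* ↥(alternatingGroup (Fin 5))) (ho : Odd (Nat.card ↥(center K))) : center K = ⊥ := by
  by_contra hne
  have h1 : Nat.card ↥(center K) ≠ 1 := by rwa [Ne, Subgroup.card_eq_one]
  obtain ⟨r, hr, hd⟩ := Nat.exists_prime_and_dvd h1
  have hF : Fact r.Prime := ⟨hr⟩
  have hr2 : r ≠ 2 := by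
    rintro rfl
    exact (Nat.not_even_iff_odd.2 ho) (even_iff_two_dvd.2 hd)
  obtain ⟨y, hy⟩ := exists_prime_orderOf_dvd_card' (G := ↥(center K)) r hd
  have hyo : orderOf (y : K) = r := by rwa [Subgroup.orderOf_coe]
  have hyp : IsPGroup r ↥(zpowers (y : K)) := by
    refine IsPGroup.of_card (n := 1) ?_
    rw [Nat.card_zpowers, hyo, pow_one]
  obtain ⟨P, hP⟩ := hyp.exists_le_sylow
  have hyP : (y : K) ∈ (P : Subgroup K) := hP (mem_zpowers _)
  let f : ↥(P : Subgroup K) →* ↥(alternatingGroup (Fin 5)) :=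
    (e.toMonoidHom.comp (QuotientGroup.mk' (center K))).comp (P : Subgroup K).subtype
  have hf : ∀ u : ↥(P : Subgroup K), f u = 1 → (u : K) ∈ center K := by
    intro u hu
    have h2 : e (QuotientGroup.mk (u : K)) = 1 := hu
    rwa [map_eq_one_iff e e.injective, QuotientGroup.eq_one_iff] at h2
  have hcard : Nat.card f.range ∣ 60 := by
    rw [← card_a5]; exact Subgroup.card_subgroup_dvd_card _
  have hpr : IsPGroup r f.range := P.isPGroup'.of_surjective f.rangeRestrict f.rangeRestrict_surjective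
  obtain ⟨k, hk⟩ := IsPGroup.iff_card.1 hpr
  have hcyc : IsCyclic f.range := by
    rw [hk] at hcard
    have hk2 : k ≤ 1 := by
      by_contra hk2
      have h3 : r ^ 2 ∣ 60 := (pow_dvd_pow r (by omega)).trans hcard
      have h4 : r ≤ 7 := by
        by_contra h5
        have h6 := Nat.le_of_dvd (by norm_num) h3
        nlinarith
      have h5 := hr.two_le
      interval_cases r <;> revert h3 <;> first | (exact absurd rfl hr2) | decide
    rcases Nat.lt_or_ge k 1 with h3 | h3
    · obtain rfl : k = 0 := by omega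
      rw [pow_zero] at hk
      have : Subsingleton f.range := (Nat.card_eq_one_iff_unique.1 hk).1
      exact isCyclic_of_subsingleton
    · obtain rfl : k = 1 := by omega
      rw [pow_one] at hk
      exact isCyclic_of_prime_card hk
  have hcomm : IsMulCommutative P := by
    refine MonoidHom.isMulCommutative_of_isCyclic_of_ker_le_center f.rangeRestrict fun u hu => ?_
    rw [MonoidHom.ker_rangeRestrict, MonoidHom.mem_ker] at hu
    rw [mem_center_iff]
    intro v
    exact Subtype.ext (mem_center_iff.1 (hf u hu) v)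
  have h7 := eq_one hK P hcomm hyP y.2
  rw [h7, orderOf_one] at hyo
  exact hr.one_lt.ne hyo

end Cfsg.Agent.H284.OddA5
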