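import Cfsg.Agent.H284.Row96
import Cfsg.Agent.H284.OddA5
import Cfsg.Agent.H284.FStd
import Cfsg.Agent.H284.StdRed
import Cfsg.Agent.H284.EvenSmall
import Cfsg.Agent.H284.QuatJ
import Cfsg.Agent.S0494
import Cfsg.Agent.S1309
import Cfsg.Agent.S1310
import Cfsg.Agent.S1726
import Cfsg.Agent.S1766
import Cfsg.Agent.S1773
import Cfsg.Agent.UGT.End.MEleven
import Cfsg.Agent.CpAut.TwoAll
import Cfsg.Agent.TwoFusion.SLTwoFacts
/-!
# S3096: standard subgroups `A` with `A / Z(A) ≅ A₅`
-/

set_option autoImplicit false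
set_option linter.unusedSectionVars false

namespace Cfsg.Agent.H284.A5Row

open Cfsg Subgroup
open Cfsg.Agent.H284.CpTwoFive Cfsg.Agent.H284.Row96 Cfsg.Agent.H284.FStd Cfsg.Agent.H284.StdRed
open Cfsg.Agent.SignalizersComponents

universe u

/-- The inputs: order table, table of `CpAut`, DESC. -/
structure Inp : Prop where
  T : OrdDiv.OrderTable.{u}
  T0 : OrdDiv.OrderTable.{0}
  tab : CpAut.TwoAbs.Table.{0}
  desc : Desc.{u}

/-- `A / Z(A)` and isomorphisms -/
noncomputable def quotCongr {A B : Type*} [Group A] [Group B] (e : B ≃* A) : B ⧸ center B ≃* A ⧸ center A :=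
  QuotientGroup.congr _ _ e (by
    ext y
    constructor
    · rintro ⟨b, hb, rfl⟩
      rw [mem_center_iff]
      intro a
      obtain ⟨c, rfl⟩ := e.surjective a
      have h1 := congrArg e (mem_center_iff.1 hb c)
      rw [map_mul, map_mul] at h1
      exact h1
    · intro hy
      obtain ⟨b, rfl⟩ := e.surjective y
      refine ⟨b, ?_, rfl⟩
      rw [SetLike.mem_coe, mem_center_iff]
      intro c
      apply e.injective
      rw [map_mul, map_mul]
      exact mem_center_iff.1 hy (e c))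

section

variable {G : Type u} [Group G] [Finite G] (hs : IsSimpleGroup ↥(generalizedFittingSubgroup G))
  (hna : ¬ IsMulCommutative ↥(generalizedFittingSubgroup G)) {A : Subgroup G} (hA : IsStandardSubgroup A)

include hs hna in
theorem layer_eq : layer G = generalizedFittingSubgroup G := by
  refine le_antisymm ?_ ?_
  · rw [Lib.GenFitting.genFitting_def]
    exact le_sup_left
  · refine le_sSup ?_
    have hFn : (generalizedFittingSubgroup G).Normal := Lib.GenFitting.genFitting_normal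
    exact ⟨hFn.isSubnormal, GH.AltOut.quasisimple hna⟩

/-- The standard subgroup as a normal subgroup of the fixed points. -/
theorem BB_normal {G : Type*} [Group G] [Finite G] {X A : Subgroup G} [X.Normal] (hA : IsStandardSubgroup A) {t : G}
    (ht : orderOf t = 2) (htA : t ∈ centralizer (A : Set G)) : (BB X A t).Normal := by
  have h1 := StandardTrichotomy.centralizer_involution_le hA ht htA
  constructor
  rintro ⟨⟨a, haX⟩, haf⟩ ha ⟨⟨g, hgX⟩, hgf⟩
  have h2 : g ∈ centralizer ({t} : Set G) := by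
    rw [mem_centralizer_singleton_iff]
    exact (mem_fix.1 hgf).symm
  have h3 := h1 h2
  rw [mem_normalizer_iff] at h3
  exact (h3 a).1 ha

include hs hna hA in
/-- The rows of the table. -/
theorem std_rows (I : Inp.{u}) (h5 : Five (↥A ⧸ center ↥A))
    (h : IsAlternating ↥(generalizedFittingSubgroup G) ∨
      (∃ p : ℕ, p.Prime ∧ p ≠ 2 ∧ IsLieTypeChar p ↥(generalizedFittingSubgroup G)) ∨
      (IsLieTypeChar 2 ↥(generalizedFittingSubgroup G) ∨ Lie.IsoTits ↥(generalizedFittingSubgroup G))) :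
    Concl ↥(generalizedFittingSubgroup G) := by
  have hFn : (generalizedFittingSubgroup G).Normal := Lib.GenFitting.genFitting_normal
  obtain ⟨hAX, hC, t, htA, ht⟩ := fstd hs hna hA
  obtain ⟨hxx, hx1, hB⟩ := comp_fix hC hA hAX ht htA
  have h5' := h5.congr (quotCongr (BBequiv hAX htA)).symm
  have hBn : (BB (generalizedFittingSubgroup G) A t).Normal := BB_normal hA ht htA
  rcases h with ⟨n, hn, ⟨e⟩⟩ | ⟨p, hp, hp2, h⟩ | h
  · exact alt_row hxx hx1 hB h5' I.T hn e
  · exact odd_row hxx hx1 hB h5' hBn I.desc hp hp2 h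
  · exact two_row hxx hx1 hB h5' hBn I.T I.T0 I.tab I.desc hna h

include hs hna hA in
/-- `A` is not normal. -/
theorem not_normal : ¬ A.Normal := by
  intro hn
  obtain ⟨hAX, hC, t, htA, ht⟩ := fstd hs hna hA
  have h1 : A ≠ ⊥ := StandardTrichotomy.ne_bot hA
  have h2 := Cit.PieceEnd.fstar_le_of_normal hs hna h1
  have h3 : t ∈ centralizer (generalizedFittingSubgroup G : Set G) := by
    rw [mem_centralizer_iff]
    intro y hy
    exact mem_centralizer_iff.1 htA y (h2 hy)
  rw [hC, mem_bot] at h3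
  rw [h3, orderOf_one] at ht
  omega

include hs hna hA in
/-- The component in `M₁₁`. -/
theorem not_m11 (h : Spor.IsoM11 ↥(generalizedFittingSubgroup G)) : False := by
  have hFn : (generalizedFittingSubgroup G).Normal := Lib.GenFitting.genFitting_normal
  obtain ⟨hAX, hC, t, htA, ht⟩ := fstd hs hna hA
  obtain ⟨hxx, hx1, hB⟩ := comp_fix hC hA hAX ht htA
  have hact : CharTwoComp.ACT ↥(generalizedFittingSubgroup G) := by
    obtain ⟨e⟩ := h
    have h1 : CharTwoComp.ACT ↥Spor.M11 := CpAut.TwoCT.m11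
    exact h1.congr e.symm
  obtain ⟨-, -, h3, -⟩ := CharTwoComp.of_fix hact hxx hB
  obtain ⟨g, hg⟩ := UGT.End.MEleven.inner h (MulAut.conjNormal t : MulAut ↥(generalizedFittingSubgroup G))
  have hgf : g ∈ fixedSubgroup (MulAut.conjNormal t : MulAut ↥(generalizedFittingSubgroup G)) := by
    change (MulAut.conjNormal t : MulAut ↥(generalizedFittingSubgroup G)) g = g
    rw [hg, MulAut.conj_apply, mul_inv_cancel_right]
  have h4 : (⟨g, hgf⟩ : ↥(fixedSubgroup (MulAut.conjNormal t : MulAut ↥(generalizedFittingSubgroup G)))) ∈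
      centralizer ((BB (generalizedFittingSubgroup G) A t : Subgroup _) : Set ↥(fixedSubgroup _)) := by
    rw [mem_centralizer_iff]
    intro y _
    have h5 : (MulAut.conjNormal t : MulAut ↥(generalizedFittingSubgroup G)) (y : ↥(generalizedFittingSubgroup G)) = y :=
      y.2
    have h6 : (MulAut.conjNormal t : MulAut ↥(generalizedFittingSubgroup G)) (y : ↥(generalizedFittingSubgroup G)) =
      MulAut.conj g (y : ↥(generalizedFittingSubgroup G)) :=
      congrArg (fun φ : MulAut ↥(generalizedFittingSubgroup G) => φ (y : ↥(generalizedFittingSubgroup G))) hg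
    rw [h5, MulAut.conj_apply] at h6
    apply Subtype.ext
    change (y : ↥(generalizedFittingSubgroup G)) * g = g * y
    conv_lhs => rw [h6]
    group
  rw [h3, mem_bot] at h4
  have h6 : g = 1 := congrArg Subtype.val h4
  apply hx1
  rw [hg, h6, map_one]

include hs hna hA in
/-- `Z(A)` of even order. -/
theorem even_case (I : Inp.{u}) (e : ↥A ⧸ center ↥A ≃* ↥(alternatingGroup (Fin 5)))
    (hZ : Even (Nat.card ↥(center ↥A))) : Concl ↥(generalizedFittingSubgroup G) := by
  have h5 : Five (↥A ⧸ center ↥A) := Or.inr ⟨2, le_rfl, ⟨e⟩⟩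
  obtain ⟨z, hzA, hz, hzc⟩ := exists_involution hZ
  obtain ⟨-, hd⟩ := double_cover hA.1 hZ (by norm_num) e
  have hr := EvenSmall.rank_of_core (SporadicB.DoubleCoverUnique.unique_involution (by norm_num) hd)
  have hty := EvenSmall.isTy hA.1 hr (quasisimple_even hZ)
  have hle := StandardTrichotomy.centralizer_involution_le hA hz hzc
  have hAz : A ≤ centralizer ({z} : Set G) := by
    intro a ha
    rw [mem_centralizer_singleton_iff]
    exact mem_centralizer_iff.1 hzc a ha
  have hn : (A.subgroupOf (centralizer ({z} : Set G))).Normal := by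
    rw [normal_subgroupOf_iff_le_normalizer hAz]
    exact hle
  rcases S1310.result hs hna z hz A hAz hzA hn.isSubnormal hty with h | h
  · exact std_rows hs hna hA I h5 (Or.inr (Or.inl h))
  · exact (not_m11 hs hna hA h).elim

include hs hna in
/-- the normal closure of `A` -/
theorem normalClosure_eq (hAX : A ≤ generalizedFittingSubgroup G) (hA1 : A ≠ ⊥) :
    normalClosure (A : Set G) = generalizedFittingSubgroup G := by
  have hFn : (generalizedFittingSubgroup G).Normal := Lib.GenFitting.genFitting_normal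
  refine le_antisymm (normalClosure_le_normal hAX) (Cit.PieceEnd.fstar_le_of_normal hs hna ?_)
  intro h
  apply hA1
  rw [eq_bot_iff, ← h]
  exact le_normalClosure

include hs hna hA in
/-- `m₂(C(A)) ≥ 2`. -/
theorem rank_case (e : ↥A ≃* ↥(alternatingGroup (Fin 5)))
    (hR : ¬ PRankLE 2 1 ↥(centralizer (A : Set G))) : Concl ↥(generalizedFittingSubgroup G) := by
  obtain ⟨hAX, hC, t, htA, ht⟩ := fstd hs hna hA
  have hcl := normalClosure_eq hs hna hAX (StandardTrichotomy.ne_bot hA)
  have hB : HasStrongBProperty G := fun _ _ _ => S1726.result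
  have f : ↥(normalClosure (A : Set G)) ≃* ↥(generalizedFittingSubgroup G) := MulEquiv.subgroupCongr hcl
  rcases S1766.result (core_eq_bot hs hna) hB A hA 5 le_rfl ⟨e⟩ hR with h | ⟨⟨g⟩⟩ | ⟨-, h | h⟩
  · exact absurd h (not_normal hs hna hA)
  · exact Or.inr (Or.inl ⟨4, by norm_num, ⟨f.symm.trans g⟩⟩)
  · obtain ⟨g⟩ := h
    exact Or.inr (Or.inr (Or.inr (Or.inr (Or.inl ⟨f.symm.trans g⟩))))
  · obtain ⟨g⟩ := h
    exact Or.inr (Or.inr (Or.inr (Or.inr (Or.inr (Or.inr (Or.inl ⟨f.symm.trans g⟩))))))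

theorem psl_two_four {F : Type} [Field F] [Fintype F] (hF : Fintype.card F = 4) :
    Nonempty (Matrix.ProjectiveSpecialLinearGroup (Fin 2) F ≃* ↥(alternatingGroup (Fin 5))) := by
  have h1 : Nat.card (Matrix.ProjectiveSpecialLinearGroup (Fin 2) F) = 60 := by
    rw [ClassicalGeometry.PSL2Basic.card_PSL2_even F (by rw [hF]; decide), hF]; norm_num
  have h2 : IsSimpleGroup (Matrix.ProjectiveSpecialLinearGroup (Fin 2) F) :=
    TwoFusion.SLTwoFacts.isSimpleGroup_psl (by rw [hF]; norm_num)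
  exact S0494.result h1

theorem not_prod {X A : Type*} [Group X] [Group A] [IsSimpleGroup X] [Nontrivial A] (e : X ≃* A × A) : False := by
  have hs : IsSimpleGroup (A × A) := e.symm.isSimpleGroup
  obtain ⟨a, ha⟩ := exists_ne (1 : A)
  rcases IsSimpleGroup.eq_bot_or_eq_top_of_normal (MonoidHom.fst A A).ker inferInstance with h | h
  · have h1 : ((1, a) : A × A) ∈ (MonoidHom.fst A A).ker := rfl
    rw [h, mem_bot] at h1
    exact ha (congrArg Prod.snd h1)
  · have h1 : ((a, 1) : A × A) ∈ (MonoidHom.fst A A).ker := h ▸ mem_top _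
    exact ha h1

theorem char_five {F : Type} [Field F] [Fintype F] {k : ℕ} (h : Fintype.card F = 5 ^ k) : CharP F 5 := by
  have : Fact (Nat.Prime 5) := ⟨Nat.prime_five⟩
  exact charP_of_card_eq_prime_pow h

include hs hna hA in
/-- `C(A)` with cyclic Sylow 2-subgroups -/
theorem cyclic_case (I : Inp.{u}) (e : ↥A ⧸ center ↥A ≃* ↥(alternatingGroup (Fin 5)))
    (hR : ∀ R : Sylow 2 ↥(Subgroup.centralizer (A : Set G)), IsCyclic ↥(R : Subgroup ↥(Subgroup.centralizer (A : Set G)))) :
    Concl ↥(generalizedFittingSubgroup G) := by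
  have h5 : Five (↥A ⧸ center ↥A) := Or.inr ⟨2, le_rfl, ⟨e⟩⟩
  obtain ⟨hAX, hC, t, htA, ht⟩ := fstd hs hna hA
  have hB : HasStrongBProperty G := fun _ _ _ => S1726.result
  have hl := layer_eq hs hna
  have hfin : Fintype (GaloisField 2 2) := Fintype.ofFinite _
  have hF4 : Fintype.card (GaloisField 2 2) = 4 := by
    rw [← Nat.card_eq_fintype_card, GaloisField.card 2 2 (by norm_num)]; norm_num
  obtain ⟨g⟩ := psl_two_four hF4
  have h := S1773.result (core_eq_bot hs hna) hB A hA (not_normal hs hna hA) hR t ht htA 2 le_rfl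
    (by rw [hF4]; norm_num) ⟨e.trans g.symm⟩
  rw [hl] at h
  rcases h with h | ⟨h, -⟩ | ⟨-, h⟩ | ⟨-, h, -⟩
  · exfalso
    obtain ⟨f⟩ := h
    have := Components.quasisimple_nontrivial hA.1
    exact not_prod f
  · exact std_rows hs hna hA I h5 (Or.inr (Or.inr h))
  · rcases h with h | ⟨⟨f⟩⟩ | h | h | ⟨⟨f⟩⟩ | ⟨E, _, _, hE, ⟨⟨f⟩⟩ | ⟨⟨f⟩⟩⟩ | ⟨E, _, _, hE, ⟨⟨f⟩⟩ | ⟨⟨f⟩⟩⟩ | ⟨K, _, _, hK, ⟨f⟩⟩
    · exact Or.inr (Or.inr (Or.inr (Or.inr (Or.inl h))))
    · exact Or.inr (Or.inl ⟨4, by norm_num, ⟨f⟩⟩)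
    · exact Or.inr (Or.inr (Or.inr (Or.inr (Or.inr (Or.inl h)))))
    · exact Or.inr (Or.inr (Or.inr (Or.inr (Or.inr (Or.inr (Or.inl h))))))
    · exact Or.inr (Or.inl ⟨3, by norm_num, ⟨f⟩⟩)
    · exact Or.inl (Or.inl ⟨E, inferInstance, inferInstance, char_five (k := 2) (by rw [hE]; norm_num), 2, le_rfl,
        fun _ => by rw [hE]; norm_num, ⟨f⟩⟩)
    · exact Or.inl (Or.inr (Or.inr (Or.inl ⟨E, inferInstance, inferInstance, char_five (k := 2) (by rw [hE]; norm_num), 3, 5,
        by rw [hE]; norm_num, le_rfl, by norm_num, ⟨f⟩⟩)))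
    · exact Or.inl (Or.inl ⟨E, inferInstance, inferInstance, char_five (k := 1) (by rw [hE]; norm_num), 3, by norm_num,
        fun h => by omega, ⟨f⟩⟩)
    · exact Or.inl (Or.inr (Or.inr (Or.inr (Or.inr (Or.inr (Or.inr (Or.inl
        ⟨E, inferInstance, inferInstance, char_five (k := 1) (by rw [hE]; norm_num), Or.inl ⟨by rw [hE]; norm_num, ⟨f⟩⟩⟩)))))))
    · exact Or.inl (Or.inr (Or.inr (Or.inr (Or.inr (Or.inr (Or.inr (Or.inr (Or.inl
        ⟨K, inferInstance, inferInstance, char_five (k := 3) (by rw [hK]; norm_num), 5, Nat.prime_five.isPrimePow,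
          Or.inr ⟨by rw [hK]; norm_num, ⟨f⟩⟩⟩))))))))
  · exfalso
    rw [hF4] at h
    omega

include hs hna hA in
/-- `C(A)` with generalized quaternion Sylow 2-subgroups -/
theorem quat_case (I : Inp.{u}) (h5 : Five (↥A ⧸ center ↥A)) (hrk : PRankLE 2 1 ↥(centralizer (A : Set G)))
    (R : Sylow 2 ↥(centralizer (A : Set G))) (hR : ¬ IsCyclic ↥(R : Subgroup ↥(centralizer (A : Set G)))) :
    Concl ↥(generalizedFittingSubgroup G) := by
  obtain ⟨z, J, hz, hJz, hzJ, hn, hQ, huniq, hmap, hnorm⟩ := QuatJ.exists_data hA hrk R hR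
  rcases S1309.result hs hna z hz J hJz hzJ hn.isSubnormal hQ huniq (fun u hu => Or.inl (hmap u hu))
    (fun y _ g _ _ hg => hnorm hg) with h | h | h | ⟨F, _, _, hF, h⟩
  · exact std_rows hs hna hA I h5 (Or.inr (Or.inl h))
  · exact (not_m11 hs hna hA h).elim
  · exact Or.inr (Or.inr (Or.inr (Or.inr (Or.inl h))))
  · have hp2 : Fact (Nat.Prime 2) := ⟨Nat.prime_two⟩
    have hF2 : CharP F 2 := charP_of_card_eq_prime_pow (f := 1) (by rw [hF]; norm_num)
    refine std_rows hs hna hA I h5 (Or.inr (Or.inr (Or.inl ?_)))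
    rcases h with h | h
    · exact Or.inr (Or.inl ⟨F, inferInstance, inferInstance, hF2, 3, by norm_num, fun h => by omega, h⟩)
    · exact Or.inr (Or.inr (Or.inr (Or.inr (Or.inl ⟨F, inferInstance, inferInstance, hF2, 4, le_rfl, h⟩))))

include hs hna hA in
/-- **The standard subgroups `A` with `A / Z(A) ≅ A₅`.** -/
theorem main (I : Inp.{u}) (e : ↥A ⧸ center ↥A ≃* ↥(alternatingGroup (Fin 5))) :
    Concl ↥(generalizedFittingSubgroup G) := by
  have h5 : Five (↥A ⧸ center ↥A) := Or.inr ⟨2, le_rfl, ⟨e⟩⟩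
  rcases Nat.even_or_odd (Nat.card ↥(center ↥A)) with hZ | hZ
  · exact even_case hs hna hA I e hZ
  have hZ1 : center ↥A = ⊥ := OddA5.odd_a5 hA.1.1.commutator_eq_top e hZ
  by_cases hrk : PRankLE 2 1 ↥(centralizer (A : Set G))
  · by_cases hR : ∀ R : Sylow 2 ↥(centralizer (A : Set G)), IsCyclic ↥(R : Subgroup ↥(centralizer (A : Set G)))
    · exact cyclic_case hs hna hA I e hR
    · push Not at hR
      obtain ⟨R, hR⟩ := hR
      exact quat_case hs hna hA I h5 hrk R hR
  · exact rank_case hs hna hA ((quotEquiv hZ1).symm.trans e) hrk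

end

end Cfsg.Agent.H284.A5Row
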