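import Cfsg.Agent.OddHalf.D6.Harada
import Cfsg.Agent.OddCyclic.EmpFFAlt
import Cfsg.Prelude.Def_EvenType

/-!
# Harada's theorem for involutory automorphisms (helper284)

* `rank_fix` : `x` an involutory automorphism of `X`, `V ≤ C_X(x)` a four-group with `C_{C_X(x)}(V) ≤ V`: `X` has sectional
  2-rank at most 4;
* `rank_a5` : the same if `A₅ ≅ A ⊴ C_X(x)` with trivial centralizer.
-/

set_option autoImplicit false

namespace Cfsg.Agent.H284.RankFix

open Subgroup Cfsg Cfsg.Agent

universe u

section semi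

variable {X : Type u} [Group X]

/-- `X ⋊ ⟨x⟩` -/
abbrev Y (x : MulAut X) : Type u := X ⋊[(zpowers x).subtype] ↥(zpowers x)

/-- `V × ⟨x⟩` -/
def EE {x : MulAut X} {V : Subgroup X} (hV : V ≤ fixedSubgroup x) : Subgroup (Y x) where
  carrier := {y | y.left ∈ V}
  one_mem' := V.one_mem
  mul_mem' {a} {b} ha hb := by
    change a.left * ((zpowers x).subtype a.right) b.left ∈ V
    have h1 : ∀ c ∈ zpowers x, ∀ v ∈ V, c v = v := by
      intro c hc v hv
      obtain ⟨n, rfl⟩ := mem_zpowers_iff.1 hc
      have h2 : x v = v := hV hv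
      have h3 : v ∈ fixedSubgroup x := h2
      have h4 : x ∈ MulAction.stabilizer (MulAut X) v := h2
      exact zpow_mem h4 n
    rw [show ((zpowers x).subtype a.right) b.left = b.left from h1 _ a.right.2 _ hb]
    exact V.mul_mem ha hb
  inv_mem' {a} ha := by
    change ((zpowers x).subtype a.right⁻¹) a.left⁻¹ ∈ V
    have h1 : ∀ c ∈ zpowers x, ∀ v ∈ V, c v = v := by
      intro c hc v hv
      obtain ⟨n, rfl⟩ := mem_zpowers_iff.1 hc
      have h2 : x v = v := hV hv
      have h4 : x ∈ MulAction.stabilizer (MulAut X) v := h2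
      exact zpow_mem h4 n
    rw [show ((zpowers x).subtype a.right⁻¹) a.left⁻¹ = a.left⁻¹ from h1 _ (a.right⁻¹).2 _ (V.inv_mem ha)]
    exact V.inv_mem ha

theorem fix_zpowers {x : MulAut X} {c : MulAut X} (hc : c ∈ zpowers x) {v : X} (hv : v ∈ fixedSubgroup x) : c v = v := by
  obtain ⟨n, rfl⟩ := mem_zpowers_iff.1 hc
  have h4 : x ∈ MulAction.stabilizer (MulAut X) v := hv
  exact zpow_mem h4 n

/-- **Harada's theorem for an involutory automorphism.** -/
theorem rank_fix [Finite X] {x : MulAut X} (hxx : x * x = 1) (hx1 : x ≠ 1) (V : Subgroup X)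
    (hV : V ≤ fixedSubgroup x) (hc : ∀ a ∈ V, ∀ b ∈ V, a * b = b * a) (h2 : ∀ a ∈ V, a * a = 1)
    (h4 : Nat.card ↥V = 4) (hC : ∀ g ∈ fixedSubgroup x, (∀ v ∈ V, g * v = v * g) → g ∈ V) :
    SectionalPRankLE 2 4 X := by
  have hfin : Finite (Y x) := Finite.of_equiv _ SemidirectProduct.equivProd.symm
  have hox : orderOf x = 2 := by
    apply orderOf_eq_prime _ hx1
    rw [pow_two, hxx]
  have hzc : ∀ a b : ↥(zpowers x), a * b = b * a := fun a b =>
    (IsMulCommutative.is_comm (M := ↥(zpowers x))).comm a b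
  have hzz : ∀ a : ↥(zpowers x), a * a = 1 := by
    intro a
    have h1 := pow_card_eq_one' (x := a)
    rw [Nat.card_zpowers, hox, pow_two] at h1
    exact h1
  set E := EE hV with hE
  have hfx : ∀ c : ↥(zpowers x), ∀ v ∈ V, (c : MulAut X) v = v := fun c v hv => fix_zpowers c.2 (hV hv)
  have hmul : ∀ a b : Y x, a * b = ⟨a.left * (a.right : MulAut X) b.left, a.right * b.right⟩ := fun a b => rfl
  have hcE : ∀ a ∈ E, ∀ b ∈ E, a * b = b * a := by
    intro a ha b hb
    rw [hmul, hmul, hfx _ _ hb, hfx _ _ ha, hc _ ha _ hb, hzc]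
  have h2E : ∀ a ∈ E, a * a = 1 := by
    intro a ha
    rw [hmul, hfx _ _ ha, h2 _ ha, hzz]
    rfl
  have hcard : Nat.card ↥E = 8 := by
    let f : ↥E ≃ ↥V × ↥(zpowers x) :=
      { toFun := fun a => (⟨(a : Y x).left, a.2⟩, (a : Y x).right)
        invFun := fun b => ⟨⟨b.1, b.2⟩, b.1.2⟩
        left_inv := fun a => rfl
        right_inv := fun b => rfl }
    rw [Nat.card_congr f, Nat.card_prod, h4, Nat.card_zpowers, hox]
  have hEp : IsPGroup 2 ↥E := IsPGroup.of_card (n := 3) (by rw [hcard]; norm_num)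
  obtain ⟨S, hES⟩ := hEp.exists_le_sylow
  have hr := OddHalf.D6.Harada.rank_of_self S E hES hcE h2E hcard (by
    intro s _ hs
    -- `s` commutes with `x` and `V`
    have h1 : (⟨1, ⟨x, mem_zpowers x⟩⟩ : Y x) ∈ E := V.one_mem
    have h3 := hs _ h1
    have h5 : s.left = x s.left := by
      have := congrArg SemidirectProduct.left h3
      rw [hmul, hmul] at this
      change s.left * (s.right : MulAut X) 1 = 1 * x s.left at this
      rwa [map_one, mul_one, one_mul] at this
    refine hC s.left h5.symm ?_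
    intro v hv
    have h6 : (⟨v, 1⟩ : Y x) ∈ E := hv
    have h7 := congrArg SemidirectProduct.left (hs _ h6)
    rw [hmul, hmul] at h7
    change s.left * (s.right : MulAut X) v = v * ((1 : ↥(zpowers x)) : MulAut X) s.left at h7
    rw [hfx _ _ hv] at h7
    exact h7)
  exact GH.Rank.of_injective hr (SemidirectProduct.inl : X →* Y x) SemidirectProduct.inl_injective

end semi

section five

open Equiv Equiv.Perm

/-- `(0 1)(2 3)` -/
def pa : Perm (Fin 5) := swap 0 1 * swap 2 3
/-- `(0 2)(1 3)` -/
def pb : Perm (Fin 5) := swap 0 2 * swap 1 3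

theorem pa_mem : pa ∈ alternatingGroup (Fin 5) := by rw [Equiv.Perm.mem_alternatingGroup]; decide +kernel
theorem pb_mem : pb ∈ alternatingGroup (Fin 5) := by rw [Equiv.Perm.mem_alternatingGroup]; decide +kernel
theorem pa_sq : pa * pa = 1 := by decide +kernel
theorem pb_sq : pb * pb = 1 := by decide +kernel
theorem pab : pa * pb = pb * pa := by decide +kernel
theorem pa_ne : pa ≠ 1 := by decide +kernel
theorem pb_ne : pb ≠ 1 := by decide +kernel
theorem pa_ne_pb : pa ≠ pb := by decide +kernel
theorem pab_ne : pa * pb ≠ 1 := by decide +kernel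

theorem cent_five : ∀ s : Perm (Fin 5), s * pa = pa * s → s * pb = pb * s →
    s = 1 ∨ s = pa ∨ s = pb ∨ s = pa * pb := by decide +kernel

/-- a four-group given by two commuting involutions -/
def four {G : Type*} [Group G] (a b : G) (ha : a * a = 1) (hb : b * b = 1) (hab : a * b = b * a) : Subgroup G where
  carrier := {1, a, b, a * b}
  one_mem' := Or.inl rfl
  mul_mem' {x} {y} hx hy := by
    have hba : b * a = a * b := hab.symm
    simp only [Set.mem_insert_iff, Set.mem_singleton_iff] at hx hy ⊢
    rcases hx with rfl | rfl | rfl | rfl <;> rcases hy with rfl | rfl | rfl | rfl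
    · simp
    · simp
    · simp
    · simp
    · simp
    · left; exact ha
    · simp
    · right; right; left; rw [← mul_assoc, ha, one_mul]
    · simp
    · right; right; right; exact hba
    · left; exact hb
    · right; left; rw [← mul_assoc, hba, mul_assoc, hb, mul_one]
    · simp
    · right; right; left; rw [mul_assoc, hba, ← mul_assoc, ha, one_mul]
    · right; left; rw [mul_assoc, hb, mul_one]
    · left; rw [mul_assoc, ← mul_assoc b a b, hba, mul_assoc a b, hb, mul_one, ha]
  inv_mem' {x} hx := by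
    simp only [Set.mem_insert_iff, Set.mem_singleton_iff] at hx ⊢
    have e1 : a⁻¹ = a := inv_eq_of_mul_eq_one_left ha
    have e2 : b⁻¹ = b := inv_eq_of_mul_eq_one_left hb
    rcases hx with rfl | rfl | rfl | rfl
    · simp
    · right; left; exact e1
    · right; right; left; exact e2
    · right; right; right; rw [mul_inv_rev, e1, e2, hab]

theorem mem_four {G : Type*} [Group G] {a b : G} {ha : a * a = 1} {hb : b * b = 1} {hab : a * b = b * a} {x : G} :
    x ∈ four a b ha hb hab ↔ x = 1 ∨ x = a ∨ x = b ∨ x = a * b := Iff.rfl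

theorem card_four {G : Type*} [Group G] {a b : G} (ha : a * a = 1) (hb : b * b = 1) (hab : a * b = b * a)
    (ha1 : a ≠ 1) (hb1 : b ≠ 1) (hne : a ≠ b) : Nat.card ↥(four a b ha hb hab) = 4 := by
  classical
  have hab1 : a * b ≠ 1 := by
    intro h
    apply hne
    have h1 := congrArg (fun z => z * b) h
    simpa [mul_assoc, hb] using h1
  have h1 : ((four a b ha hb hab : Subgroup G) : Set G) = (({1, a, b, a * b} : Finset G) : Set G) := by
    ext x
    simp only [Finset.coe_insert, Finset.coe_singleton, Set.mem_insert_iff, Set.mem_singleton_iff]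
    exact Iff.rfl
  have h2 : Nat.card ↥(four a b ha hb hab) = ({1, a, b, a * b} : Finset G).card := by
    rw [← Set.ncard_coe_finset, ← h1]
    rfl
  rw [h2, Finset.card_insert_of_notMem, Finset.card_insert_of_notMem, Finset.card_insert_of_notMem,
    Finset.card_singleton]
  · rw [Finset.mem_singleton]
    intro h
    apply ha1
    have h3 := congrArg (fun z => z * b⁻¹) h
    simpa using h3.symm
  · rw [Finset.mem_insert, Finset.mem_singleton, not_or]
    refine ⟨hne, fun h => hb1 ?_⟩
    have h3 := congrArg (fun z => a⁻¹ * z) h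
    simpa using h3.symm
  · rw [Finset.mem_insert, Finset.mem_insert, Finset.mem_singleton, not_or, not_or]
    exact ⟨fun h => ha1 h.symm, fun h => hb1 h.symm, fun h => hab1 h.symm⟩

theorem comm_four {G : Type*} [Group G] {a b : G} {ha : a * a = 1} {hb : b * b = 1} {hab : a * b = b * a} :
    ∀ x ∈ four a b ha hb hab, ∀ y ∈ four a b ha hb hab, x * y = y * x := by
  intro x hx y hy
  have hba : b * a = a * b := hab.symm
  have h1 : a * (a * b) = b := by rw [← mul_assoc, ha, one_mul]
  have h2 : a * b * a = b := by rw [mul_assoc, hba, ← mul_assoc, ha, one_mul]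
  have h3 : b * (a * b) = a := by rw [← mul_assoc, hba, mul_assoc, hb, mul_one]
  have h4 : a * b * b = a := by rw [mul_assoc, hb, mul_one]
  rcases hx with rfl | rfl | rfl | rfl <;> rcases hy with rfl | rfl | rfl | rfl <;> simp [hba, h1, h2, h3, h4]

theorem sq_four {G : Type*} [Group G] {a b : G} {ha : a * a = 1} {hb : b * b = 1} {hab : a * b = b * a} :
    ∀ x ∈ four a b ha hb hab, x * x = 1 := by
  intro x hx
  have hba : b * a = a * b := hab.symm
  rcases hx with rfl | rfl | rfl | rfl
  · simp
  · exact ha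
  · exact hb
  · rw [mul_assoc, ← mul_assoc b a b, hba, mul_assoc a b, hb, mul_one, ha]

/-- `H` almost simple over `A = A₅`: a self-centralizing four-group -/
theorem exists_four {H : Type*} [Group H] {A : Subgroup H} (hn : A.Normal) (hc : centralizer (A : Set H) = ⊥)
    (e : ↥A ≃* ↥(alternatingGroup (Fin 5))) : ∃ V : Subgroup H, V ≤ A ∧ (∀ a ∈ V, ∀ b ∈ V, a * b = b * a) ∧
      (∀ a ∈ V, a * a = 1) ∧ Nat.card ↥V = 4 ∧ ∀ g : H, (∀ v ∈ V, g * v = v * g) → g ∈ V := by
  set a : ↥A := e.symm ⟨pa, pa_mem⟩ with ha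
  set b : ↥A := e.symm ⟨pb, pb_mem⟩ with hb
  have haa : a * a = 1 := by
    rw [ha, ← map_mul, ← map_one e.symm]
    exact congrArg e.symm (Subtype.ext pa_sq)
  have hbb : b * b = 1 := by
    rw [hb, ← map_mul, ← map_one e.symm]
    exact congrArg e.symm (Subtype.ext pb_sq)
  have hab : a * b = b * a := by
    rw [ha, hb, ← map_mul, ← map_mul]
    exact congrArg e.symm (Subtype.ext pab)
  have ha1 : a ≠ 1 := by
    intro h
    rw [ha, ← map_one e.symm] at h
    exact pa_ne (congrArg Subtype.val (e.symm.injective h))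
  have hb1 : b ≠ 1 := by
    intro h
    rw [hb, ← map_one e.symm] at h
    exact pb_ne (congrArg Subtype.val (e.symm.injective h))
  have hne : a ≠ b := by
    intro h
    rw [ha, hb] at h
    exact pa_ne_pb (congrArg Subtype.val (e.symm.injective h))
  have haa' : (a : H) * a = 1 := congrArg Subtype.val haa
  have hbb' : (b : H) * b = 1 := congrArg Subtype.val hbb
  have hab' : (a : H) * b = b * a := congrArg Subtype.val hab
  refine ⟨four (a : H) b haa' hbb' hab', ?_, comm_four, sq_four, ?_, ?_⟩
  · intro x hx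
    rcases hx with rfl | rfl | rfl | rfl
    · exact A.one_mem
    · exact a.2
    · exact b.2
    · exact A.mul_mem a.2 b.2
  · exact card_four _ _ _ (fun h => ha1 (Subtype.ext h)) (fun h => hb1 (Subtype.ext h)) (fun h => hne (Subtype.ext h))
  · intro g hg
    let c : MulAut ↥(alternatingGroup (Fin 5)) := (e.symm.trans (MulAut.conjNormal g : MulAut ↥A)).trans e
    obtain ⟨s, hs⟩ := OddCyclic.EmpFFAlt.exists_conj c
    have hga : (MulAut.conjNormal g : MulAut ↥A) a = a := by
      apply Subtype.ext
      rw [MulAut.conjNormal_apply]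
      have := hg a (mem_four.2 (Or.inr (Or.inl rfl)))
      rw [this, mul_inv_cancel_right]
    have hgb : (MulAut.conjNormal g : MulAut ↥A) b = b := by
      apply Subtype.ext
      rw [MulAut.conjNormal_apply]
      have := hg b (mem_four.2 (Or.inr (Or.inr (Or.inl rfl))))
      rw [this, mul_inv_cancel_right]
    have hsa : s * pa = pa * s := by
      have h1 := hs ⟨pa, pa_mem⟩
      have h2 : c ⟨pa, pa_mem⟩ = ⟨pa, pa_mem⟩ := by
        change e ((MulAut.conjNormal g : MulAut ↥A) (e.symm ⟨pa, pa_mem⟩)) = _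
        rw [← ha, hga, ha, e.apply_symm_apply]
      rw [h2] at h1
      exact (eq_mul_inv_iff_mul_eq.1 h1).symm
    have hsb : s * pb = pb * s := by
      have h1 := hs ⟨pb, pb_mem⟩
      have h2 : c ⟨pb, pb_mem⟩ = ⟨pb, pb_mem⟩ := by
        change e ((MulAut.conjNormal g : MulAut ↥A) (e.symm ⟨pb, pb_mem⟩)) = _
        rw [← hb, hgb, hb, e.apply_symm_apply]
      rw [h2] at h1
      exact (eq_mul_inv_iff_mul_eq.1 h1).symm
    -- the element of `A` with the same action
    have key : ∀ (w : ↥A), ((e w : ↥(alternatingGroup (Fin 5))) : Perm (Fin 5)) = s → g = w := by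
      intro w hw
      have h1 : (w : H)⁻¹ * g ∈ centralizer (A : Set H) := by
        rw [mem_centralizer_iff]
        intro y hy
        have h2 := hs (e ⟨y, hy⟩)
        have h3 : c (e ⟨y, hy⟩) = e (w * ⟨y, hy⟩ * w⁻¹) := by
          apply Subtype.ext
          rw [h2, map_mul, map_mul, map_inv, ← hw]
          rfl
        have h4 : c (e ⟨y, hy⟩) = e ((MulAut.conjNormal g : MulAut ↥A) ⟨y, hy⟩) := by
          change e ((MulAut.conjNormal g : MulAut ↥A) (e.symm (e ⟨y, hy⟩))) = _
          rw [e.symm_apply_apply]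
        rw [h4] at h3
        have h5 := congrArg Subtype.val (e.injective h3)
        rw [MulAut.conjNormal_apply] at h5
        change g * y * g⁻¹ = (w : H) * y * (w : H)⁻¹ at h5
        have h6 : g * y = (w : H) * y * (w : H)⁻¹ * g := by rw [← h5, inv_mul_cancel_right]
        rw [mul_assoc _ g y, h6]
        group
      rw [hc, mem_bot] at h1
      exact (inv_mul_eq_one.1 h1).symm
    rw [mem_four]
    rcases cent_five s hsa hsb with h | h | h | h
    · left
      exact key 1 (by rw [map_one, h]; rfl)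
    · right; left
      exact key a (by rw [ha, e.apply_symm_apply, h])
    · right; right; left
      exact key b (by rw [hb, e.apply_symm_apply, h])
    · right; right; right
      exact key (a * b) (by rw [map_mul, ha, hb, e.apply_symm_apply, e.apply_symm_apply, h]; rfl)

/-- **`C_X(x)` almost simple over `A₅`: `X` has sectional 2-rank at most 4.** -/
theorem rank_a5 {X : Type u} [Group X] [Finite X] {x : MulAut X} (hxx : x * x = 1) (hx1 : x ≠ 1)
    {A : Subgroup ↥(fixedSubgroup x)} (hn : A.Normal) (hc : centralizer (A : Set ↥(fixedSubgroup x)) = ⊥)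
    (e : ↥A ≃* ↥(alternatingGroup (Fin 5))) : SectionalPRankLE 2 4 X := by
  obtain ⟨V, -, h1, h2, h3, h4⟩ := exists_four hn hc e
  refine rank_fix hxx hx1 (V.map (fixedSubgroup x).subtype) (map_subtype_le V) ?_ ?_ ?_ ?_
  · rintro _ ⟨a, ha, rfl⟩ _ ⟨b, hb, rfl⟩
    exact congrArg Subtype.val (h1 a ha b hb)
  · rintro _ ⟨a, ha, rfl⟩
    exact congrArg Subtype.val (h2 a ha)
  · rw [card_map_of_injective (fixedSubgroup x).subtype_injective]
    exact h3
  · intro g hg hgv
    refine ⟨⟨g, hg⟩, h4 ⟨g, hg⟩ fun v hv => Subtype.ext (hgv v ⟨v, hv, rfl⟩), rfl⟩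

end five

end Cfsg.Agent.H284.RankFix
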