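import Cfsg.Agent.H284.AltComp
import Cfsg.Agent.H300.RankAlt
import Cfsg.Agent.H300.D8Base
import Cfsg.Agent.GH.Rank

/-!
# The alternating row of S3160 (helper284)

`X = A_m`, `x` an involutory automorphism of `X`, `A` a component of `C_X(x)`.

* `table_v` : `A = A_n`, `m = n + 2k`, `k ≥ 1`, `n ≥ 5`; if `k ≥ 2`, some `v ∈ C_X(A)`, `v ∈ C_X(x)`, is a product of two
  2-cycles;
* `card_of_cent` : a component of the centralizer of a product of two 2-cycles has order `(m - 4)! / 2`;
* `rank_le_nine` : `A₈`, `A₉` have sectional 2-rank at most 4;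
* `alt_row` : `A` with Sylow 2-subgroups `D₈`, a component of the centralizers of all the involutions of `C_X(A)`:
  sectional 2-rank at most 4, or `A = A_n`, `X = A_{n+4}`, `n = 6, 7`.
-/

set_option autoImplicit false

namespace Cfsg.Agent.H284.AltRow

open Equiv Equiv.Perm Subgroup Cfsg Cfsg.Agent.SignalizersComponents.Components
open Cfsg.Agent.H284.AltComp

universe u

section perm

variable {α : Type} [Fintype α] [DecidableEq α] {s : Perm α}

/-- **a product of two 2-cycles centralizing `A(fixed points)`** -/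
theorem exists_two (hs : ∀ i, s (s i) = i) (h3 : 2 < Fintype.card (Mv s)) : ∃ a : ↥(CA s),
    (∀ u ∈ (rho s).ker, u * a = a * u) ∧ orderOf a = 2 ∧
      Fintype.card (Mv ((a : ↥(alternatingGroup α)) : Perm α)) = 4 := by
  have hne : Nonempty (Mv s) := Fintype.card_pos_iff.1 (by omega)
  obtain ⟨⟨i, hi⟩⟩ := hne
  obtain ⟨j, hj, hjn⟩ : ∃ j : α, s j ≠ j ∧ j ∉ ({i, s i} : Finset α) := by
    by_contra hno
    push Not at hno
    have hle : Fintype.card (Mv s) ≤ 2 := by
      rw [Fintype.card_subtype]
      refine (Finset.card_le_card (t := ({i, s i} : Finset α)) ?_).trans Finset.card_le_two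
      intro j hj
      rw [Finset.mem_filter] at hj
      exact hno j hj.2
    omega
  simp only [Finset.mem_insert, Finset.mem_singleton, not_or] at hjn
  obtain ⟨h1, h2⟩ := hjn
  have h3 : s j ≠ i := fun h => h2 (by rw [← h, hs])
  have h4 : s j ≠ s i := fun h => h1 (s.injective h)
  refine ⟨prc hi hj h1 h2 hs, fun u hu => comm_of_fix ?_ hu, ?_, ?_⟩
  · intro p hp
    change pr s i j p = p
    rw [pr_apply hi hj h1 h2 hs]
    split_ifs
    · exact hp
    · rfl
  · refine orderOf_eq_prime ?_ ?_
    · rw [pow_two]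
      apply Subtype.ext
      apply Subtype.ext
      ext p
      change pr s i j (pr s i j p) = p
      rw [pr_apply hi hj h1 h2 hs, pr_apply hi hj h1 h2 hs p]
      have e : ∀ v w : α, s v = w ↔ v = s w := fun v w => ⟨fun h => by rw [← h, hs], fun h => by rw [h, hs]⟩
      by_cases h : p = i ∨ p = s i ∨ p = j ∨ p = s j
      · rw [if_pos h, if_pos, hs]
        rw [e, e, e, e, hs, hs]
        tauto
      · rw [if_neg h, if_neg h]
    · intro h
      have h5 := congrArg (fun c : ↥(CA s) => ((c : ↥(alternatingGroup α)) : Perm α) i) h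
      change pr s i j i = i at h5
      rw [pr_apply hi hj h1 h2 hs, if_pos (Or.inl rfl)] at h5
      exact hi h5
  · rw [Fintype.card_subtype]
    have h5 : (Finset.univ.filter fun p => ((prc hi hj h1 h2 hs : ↥(alternatingGroup α)) : Perm α) p ≠ p) =
        ({i, s i, j, s j} : Finset α) := by
      ext p
      rw [Finset.mem_filter]
      simp only [Finset.mem_univ, true_and, Finset.mem_insert, Finset.mem_singleton]
      change pr s i j p ≠ p ↔ _
      rw [pr_apply hi hj h1 h2 hs]
      constructor
      · intro h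
        by_contra hcon
        rw [if_neg hcon] at h
        exact h rfl
      · intro h
        rw [if_pos h]
        rcases h with rfl | rfl | rfl | rfl
        · exact hi
        · rw [hs]; exact hi.symm
        · exact hj
        · rw [hs]; exact hj.symm
    rw [h5, Finset.card_insert_of_notMem, Finset.card_insert_of_notMem, Finset.card_insert_of_notMem,
      Finset.card_singleton]
    · rw [Finset.mem_singleton]; exact hj.symm
    · rw [Finset.mem_insert, Finset.mem_singleton, not_or]
      exact ⟨Ne.symm h2, h4.symm⟩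
    · rw [Finset.mem_insert, Finset.mem_insert, Finset.mem_singleton, not_or, not_or]
      exact ⟨hi.symm, Ne.symm h1, h3.symm⟩

end perm

/-- **Components of the centralizer of an involutory automorphism of an alternating group**, the version with a product
of two 2-cycles. -/
theorem table_v {m : ℕ} (hm : 5 ≤ m) {X : Type*} [Group X] (e : X ≃* ↥(alternatingGroup (Fin m))) {x : MulAut X}
    (hxx : x * x = 1) (hx1 : x ≠ 1) {A : Subgroup ↥(fixedSubgroup x)} (hA : IsComponent A) :
    ∃ n k : ℕ, 5 ≤ n ∧ 1 ≤ k ∧ m = n + 2 * k ∧ Nonempty (↥A ≃* ↥(alternatingGroup (Fin n))) ∧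
      (2 ≤ k → ∃ a : ↥(fixedSubgroup x), a ∈ centralizer (A : Set ↥(fixedSubgroup x)) ∧ orderOf a = 2 ∧
        Fintype.card (Mv ((e (a : X) : ↥(alternatingGroup (Fin m))) : Perm (Fin m))) = 4) := by
  classical
  set y : MulAut ↥(alternatingGroup (Fin m)) := (e.symm.trans x).trans e with hy
  have hy' : ∀ a, y a = e (x (e.symm a)) := fun a => rfl
  have hyy : y * y = 1 := by
    ext a
    rw [MulAut.mul_apply, hy', hy', e.symm_apply_apply]
    have h1 : x (x (e.symm a)) = e.symm a := by
      have := congrArg (fun f : MulAut X => f (e.symm a)) hxx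
      exact this
    rw [h1, e.apply_symm_apply]
    rfl
  have hfix : (fixedSubgroup x).map e.toMonoidHom = fixedSubgroup y := by
    ext a
    constructor
    · rintro ⟨b, hb, rfl⟩
      change y (e b) = e b
      rw [hy', e.symm_apply_apply, show x b = b from hb]
    · intro ha
      refine ⟨e.symm a, ?_, e.apply_symm_apply a⟩
      change x (e.symm a) = e.symm a
      have h1 : y a = a := ha
      rw [hy'] at h1
      exact e.injective (by rw [e.apply_symm_apply]; exact h1)
  -- degree six
  have h3 : m = 6 → ∃ a : ↥(alternatingGroup (Fin m)), a * a * a = 1 ∧ a ≠ 1 ∧ y a = a := by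
    intro h6
    let B : Subgroup ↥(alternatingGroup (Fin m)) := (A.map (fixedSubgroup x).subtype).map e.toMonoidHom
    have eB : ↥A ≃* ↥B := (A.equivMapOfInjective _ (fixedSubgroup x).subtype_injective).trans (e.subgroupMap _)
    have hB : ¬ Group.IsSolvable ↥B := by
      intro h
      exact quasisimple_not_isSolvable hA.2
        (Group.isSolvable_of_isSolvable_injective (f := eB.toMonoidHom) eB.injective)
    obtain ⟨a, haB, ha, ha1⟩ := exists_three h6 hB
    refine ⟨a, ha, ha1, ?_⟩
    have h7 : B ≤ fixedSubgroup y := by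
      rw [← hfix]
      exact Subgroup.map_mono (map_subtype_le A)
    exact h7 haB
  obtain ⟨s, hs, hfs, hs1⟩ := exists_perm hm hyy h3
  have hs1' : s ≠ 1 := by
    intro h
    apply hx1
    ext a
    have h1 := congrArg (fun f : MulAut ↥(alternatingGroup (Fin m)) => f (e a)) (hs1 h)
    change y (e a) = e a at h1
    rw [hy', e.symm_apply_apply] at h1
    exact e.injective h1
  let φ : ↥(fixedSubgroup x) ≃* ↥(CA s) := (e.subgroupMap (fixedSubgroup x)).trans
    (MulEquiv.subgroupCongr (hfix.trans hfs))
  have hφ : ∀ c : ↥(CA s), e ((φ.symm c : ↥(fixedSubgroup x)) : X) = c := by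
    intro c
    have h1 : ((φ (φ.symm c) : ↥(CA s)) : ↥(alternatingGroup (Fin m))) = e ((φ.symm c : ↥(fixedSubgroup x)) : X) := rfl
    rw [← h1, φ.apply_symm_apply]
  have hB := isComponent_map_equiv φ hA
  obtain ⟨h1, h5⟩ := comp_eq hs hB
  have hev := even_moved s (Equiv.ext hs)
  obtain ⟨k, hk⟩ := hev
  have hsp := card_split s
  rw [Fintype.card_fin] at hsp
  have hpos : 0 < Fintype.card (Mv s) := by
    rw [Fintype.card_pos_iff]
    by_contra hne
    rw [not_nonempty_iff] at hne
    apply hs1'
    ext i
    by_contra hi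
    exact hne.elim ⟨i, fun h => hi (by rw [h]; rfl)⟩
  refine ⟨Fintype.card (Fx s), k, h5, by omega, by omega, ?_, ?_⟩
  · exact ⟨((φ.subgroupMap A).trans (MulEquiv.subgroupCongr h1)).trans
      ((kerEquiv s).symm.trans (Fintype.equivFin (Fx s)).altCongrHom)⟩
  · intro hk2
    obtain ⟨a, ha, hoa, h4⟩ := exists_two hs (by omega)
    refine ⟨φ.symm a, ?_, ?_, ?_⟩
    · rw [mem_centralizer_iff]
      intro u hu
      have h2 := ha (φ u) (by rw [← h1]; exact mem_map_of_mem _ hu)
      apply φ.injective
      rw [map_mul, map_mul, φ.apply_symm_apply]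
      exact h2
    · rw [← hoa]; exact φ.symm.orderOf_eq a
    · convert h4 using 6
      exact hφ a

/-- **the components of the centralizer of a product of two 2-cycles** -/
theorem card_of_cent {m : ℕ} {X : Type*} [Group X] (e : X ≃* ↥(alternatingGroup (Fin m))) {v : X} (hv : orderOf v = 2)
    (h4 : Fintype.card (Mv ((e v : ↥(alternatingGroup (Fin m))) : Perm (Fin m))) = 4) {L : Subgroup X}
    (hL : IsComponentOf L (centralizer ({v} : Set X))) :
    5 ≤ m - 4 ∧ Nonempty (↥L ≃* ↥(alternatingGroup (Fin (m - 4)))) := by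
  classical
  set s : Perm (Fin m) := ((e v : ↥(alternatingGroup (Fin m))) : Perm (Fin m)) with hsdef
  have hvv : v * v = 1 := by rw [← pow_two, ← hv, pow_orderOf_eq_one]
  have hss : s * s = 1 := by
    have h1 : e v * e v = 1 := by rw [← map_mul, hvv, map_one]
    exact congrArg Subtype.val h1
  have hs : ∀ i, s (s i) = i := fun i => congrArg (fun p : Perm (Fin m) => p i) hss
  have hmap : (centralizer ({v} : Set X)).map e.toMonoidHom = CA s := by
    ext c
    rw [CA, mem_subgroupOf, mem_centralizer_singleton_iff]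
    constructor
    · rintro ⟨g, hg, rfl⟩
      have h1 := mem_centralizer_singleton_iff.1 hg
      have h2 : e g * e v = e v * e g := by rw [← map_mul, h1, map_mul]
      exact congrArg Subtype.val h2
    · intro h
      refine ⟨e.symm c, ?_, e.apply_symm_apply c⟩
      rw [SetLike.mem_coe, mem_centralizer_singleton_iff]
      apply e.injective
      rw [map_mul, map_mul, e.apply_symm_apply]
      exact Subtype.ext h
  let φ : ↥(centralizer ({v} : Set X)) ≃* ↥(CA s) := (e.subgroupMap (centralizer ({v} : Set X))).trans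
    (MulEquiv.subgroupCongr hmap)
  have hB := isComponent_map_equiv φ hL.2
  obtain ⟨h1, h5⟩ := comp_eq hs hB
  have hsp := card_split s
  rw [Fintype.card_fin, h4] at hsp
  have h6 : Fintype.card (Fx s) = m - 4 := by omega
  refine ⟨by omega, ?_⟩
  have e1 : ↥L ≃* ↥(alternatingGroup (Fin (Fintype.card (Fx s)))) :=
    (subgroupOfEquivOfLe hL.1).symm.trans (((φ.subgroupMap _).trans (MulEquiv.subgroupCongr h1)).trans
      ((kerEquiv s).symm.trans (Fintype.equivFin (Fx s)).altCongrHom))
  rw [h6] at e1
  exact ⟨e1⟩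

/-- the degree of an alternating group -/
theorem deg_eq {n n' : ℕ} (hn : 5 ≤ n) (hn' : 5 ≤ n')
    (e : ↥(alternatingGroup (Fin n)) ≃* ↥(alternatingGroup (Fin n'))) : n = n' := by
  have h1 : Nontrivial (Fin n) := Fin.nontrivial_iff_two_le.2 (by omega)
  have h2 : Nontrivial (Fin n') := Fin.nontrivial_iff_two_le.2 (by omega)
  have h3 := two_mul_nat_card_alternatingGroup (α := Fin n)
  have h4 := two_mul_nat_card_alternatingGroup (α := Fin n')
  rw [Nat.card_congr e.toEquiv, h4, Nat.card_perm, Nat.card_perm, Nat.card_eq_fintype_card, Nat.card_eq_fintype_card,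
    Fintype.card_fin, Fintype.card_fin] at h3
  exact (Nat.factorial_inj (by omega)).1 h3.symm

/-- **`A₉`** -/
theorem rank_nine : SectionalPRankLE 2 4 ↥(alternatingGroup (Fin 9)) := by
  classical
  let f : ↥(alternatingGroup (Fin 8)) →* ↥(alternatingGroup (Fin 9)) :=
    { toFun := fun g => ⟨(g : Perm (Fin 8)).extendDomain (finSuccEquiv 8 |>.symm |> fun e =>
          (Equiv.ofInjective (Fin.castSucc : Fin 8 → Fin 9) (Fin.castSucc_injective 8))), by
        rw [mem_alternatingGroup, sign_extendDomain]
        exact mem_alternatingGroup.1 g.2⟩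
      map_one' := by
        apply Subtype.ext
        exact extendDomain_one _
      map_mul' := fun a b => by
        apply Subtype.ext
        exact (extendDomain_mul _ _ _).symm }
  have hf : Function.Injective f := by
    intro a b h
    have h1 := congrArg (fun c : ↥(alternatingGroup (Fin 9)) => (c : Perm (Fin 9))) h
    exact Subtype.ext (extendDomainHom_injective _ h1)
  have hc : Nat.card ↥f.range = 20160 := by
    rw [← Nat.card_congr (MonoidHom.ofInjective hf).toEquiv, nat_card_alternatingGroup, Nat.card_fin]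
    decide
  have hc9 : Nat.card ↥(alternatingGroup (Fin 9)) = 181440 := by
    rw [nat_card_alternatingGroup, Nat.card_fin]
    decide
  refine GH.Rank.of_not_dvd_index Nat.prime_two f.range ?_ ?_
  · have h1 := f.range.card_mul_index
    rw [hc, hc9] at h1
    omega
  · exact (GH.Rank.of_equiv H300.RankAlt.rank_eight (MonoidHom.ofInjective hf))

/-- **The alternating row.** -/
theorem alt_row {X : Type u} [Group X] [Finite X] {m : ℕ} (hm : 5 ≤ m) (eX : X ≃* ↥(alternatingGroup (Fin m)))
    (L : Subgroup X) (hD : H300.D8Base.D8 ↥L) (x : MulAut X) (hxx : x * x = 1)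
    (hx1 : x ≠ 1) (hfix : ∀ l ∈ L, x l = l)
    (hcx : (L.subgroupOf (fixedSubgroup x)).Normal ∧ IsComponent (L.subgroupOf (fixedSubgroup x)))
    (hst : ∀ v ∈ centralizer (L : Set X), orderOf v = 2 → IsComponentOf L (centralizer ({v} : Set X))) :
    SectionalPRankLE 2 4 X ∨
      ∃ n : ℕ, (n = 6 ∨ n = 7) ∧ Nonempty (↥L ≃* ↥(alternatingGroup (Fin n))) ∧ m = n + 4 := by
  have hLf : L ≤ fixedSubgroup x := fun l hl => hfix l hl
  obtain ⟨n, k, hn, hk, hmk, ⟨e⟩, h2⟩ := table_v hm eX hxx hx1 hcx.2
  have eL : ↥L ≃* ↥(alternatingGroup (Fin n)) := (subgroupOfEquivOfLe hLf).symm.trans e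
  have hnt : Nontrivial (Fin n) := Fin.nontrivial_iff_two_le.2 (by omega)
  have hcard := two_mul_nat_card_alternatingGroup (α := Fin n)
  rw [← Nat.card_congr eL.toEquiv, Nat.card_perm, Nat.card_fin] at hcard
  have h8 := hD.dvd
  have h16 := hD.not_dvd
  have hn67 : n = 6 ∨ n = 7 := by
    rcases Nat.lt_or_ge n 8 with hlt | hge
    · interval_cases n
      · exfalso
        have h1 : Nat.card ↥L = 60 := by
          have : Nat.factorial 5 = 120 := rfl
          omega
        rw [h1] at h8
        omega
      · exact Or.inl rfl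
      · exact Or.inr rfl
    · exfalso
      apply h16
      have h1 : Nat.factorial 8 ∣ 2 * Nat.card ↥L := by
        rw [hcard]
        exact Nat.factorial_dvd_factorial hge
      have h3 : Nat.factorial 8 = 2 * (16 * 1260) := by decide
      rw [h3] at h1
      exact (Dvd.intro _ rfl).trans (Nat.dvd_of_mul_dvd_mul_left two_pos h1)
  rcases Nat.lt_or_ge k 2 with hk1 | hk2
  · left
    have hk' : k = 1 := by omega
    subst hk'
    rcases hn67 with rfl | rfl
    · subst hmk
      exact GH.Rank.of_injective H300.RankAlt.rank_eight eX.toMonoidHom eX.injective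
    · subst hmk
      exact GH.Rank.of_injective rank_nine eX.toMonoidHom eX.injective
  · right
    obtain ⟨a, ha, hoa, h4⟩ := h2 hk2
    have hoa' : orderOf (a : X) = 2 := by rw [orderOf_coe]; exact hoa
    have haL : (a : X) ∈ centralizer (L : Set X) := by
      rw [mem_centralizer_iff]
      intro l hl
      have h5 := mem_centralizer_iff.1 ha ⟨l, hLf hl⟩ (mem_subgroupOf.2 hl)
      exact congrArg Subtype.val h5
    obtain ⟨h5, ⟨e2⟩⟩ := card_of_cent eX hoa' h4 (hst _ haL hoa')
    have h6 := deg_eq hn h5 (eL.symm.trans e2)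
    exact ⟨n, hn67, ⟨eL⟩, by omega⟩

end Cfsg.Agent.H284.AltRow
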