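import Cfsg.Agent.H284.FiveNum
import Cfsg.Agent.H283.OddSpor
import Cfsg.Agent.H298.EOArith
import Cfsg.Agent.S2119

/-!
# Alternating components of odd degree in the groups of Lie type of odd characteristic (helper284)

`desc_alt` : `K` simple of Lie type in odd characteristic `p`, `x ∈ Aut(K)`, `x ^ 2 = 1`, `A` a normal component of
`C_K(x)`, `A / Z(A) ≅ A_n`, `n` odd: `n = 5` and `p = 5`.
-/

set_option autoImplicit false
set_option linter.unusedSectionVars false

namespace Cfsg.Agent.H284.DescAlt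

open Cfsg Subgroup Cfsg.Agent.FixBN Cfsg.Agent.BpGate Cfsg.Agent.H283.DescInst Cfsg.Agent.H283.DescQuot
open Cfsg.Agent.H283.DescComp Cfsg.Agent.SignalizersComponents.Components Cfsg.Agent.H283.OddComp
open Cfsg.Agent.H283.OddSpor Cfsg.Agent.H298.EOAlm Cfsg.Agent.H298.QTest Cfsg.Agent.H284.FiveNum
open Cfsg.Agent.H284.CpTwoFive Cfsg.Agent.H284.SepOrd

universe u v

/-- the automorphisms of odd order of `A_n`, `n ≠ 6`, are inner -/
theorem oi_alt {n : ℕ} (hn : 5 ≤ n) (h6 : n ≠ 6) {K : Type*} [Group K] [Finite K] (e : K ≃* ↥(alternatingGroup (Fin n))) :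
    H256.OddInner.OI K := by
  refine H256.OddInner.OI.congr e ?_
  refine H256.OddInner.OI.of_sq fun α => ?_
  obtain ⟨σ, rfl⟩ := (S2119.result n (by omega) h6).2 α
  refine ⟨⟨σ ^ 2, ?_⟩, ?_⟩
  · rw [Equiv.Perm.mem_alternatingGroup, map_pow]
    exact Int.units_sq _
  · apply MulEquiv.ext
    intro y
    rw [← map_pow (MulAut.conjNormal : Equiv.Perm (Fin n) →* MulAut ↥(alternatingGroup (Fin n)))]
    apply Subtype.ext
    rw [MulAut.conjNormal_apply]
    rfl

/-- a simple group with a split (B,N)-pair is not alternating of odd degree at least 7 -/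
theorem charBN_alt (T : OrdDiv.OrderTable.{u}) {p : ℕ} [Fact p.Prime] {Q : Type u} [Group Q] [Finite Q] [IsSimpleGroup Q]
    (h : CharBN p Q) {n : ℕ} (hn : 2 ≤ n) (e : Q ≃* ↥(alternatingGroup (Fin (2 * n + 1)))) : n = 2 := by
  have h5 : Five Q := Or.inr ⟨n, hn, ⟨e⟩⟩
  have hc := OrdDiv.alt_card (by omega) e
  obtain ⟨P, h1, h2⟩ := h.isSplit
  rcases lie_of_concl (S1144.result P h1 h2) with ⟨q, hq, h⟩ | h
  · rcases eq_or_ne q 2 with rfl | hq2
    · have h3 := five_two T h5 h
      rw [h3] at hc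
      have := H902.Art.alt_inj (M := 60) (show 5 ≤ 2 * n + 1 by omega) hc.symm (m := 5) (by decide)
      omega
    · rcases alt T hq hq2 h (by omega) e with h3 | h3 <;> omega
  · exfalso
    have h3 : Nat.card Q = 17971200 := T.spor Q (.tits, 17971200) (by decide) h
    have h4 := five_not T h5
    rw [h3] at h4
    revert h4
    decide +kernel

theorem not_comm_alt {n : ℕ} (hn : 5 ≤ n) {K : Type*} [Group K] (e : K ≃* ↥(alternatingGroup (Fin n))) :
    ¬ IsMulCommutative K := by
  intro hc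
  have h1 : IsSimpleGroup ↥(alternatingGroup (Fin n)) := alternatingGroup.isSimpleGroup (by rwa [Nat.card_fin])
  have h2 : center ↥(alternatingGroup (Fin n)) = ⊥ := alternatingGroup.center_eq_bot (by rw [Nat.card_eq_fintype_card, Fintype.card_fin]; omega)
  have h3 : center ↥(alternatingGroup (Fin n)) = ⊤ := by
    rw [eq_top_iff]
    intro a _
    rw [mem_center_iff]
    intro b
    apply e.symm.injective
    rw [map_mul, map_mul]
    exact hc.is_comm.comm _ _
  rw [h2] at h3
  exact bot_ne_top h3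

/-- the almost simple group of a normal component, with the characteristic -/
theorem almost_p {p : ℕ} (hp2 : p ≠ 2) {X : Type*} [Group X] [Finite X] [IsSimpleGroup X]
    (hX : IsLieTypeChar p X) (hR : ¬ Lie.IsoRee X) (x : MulAut X) (hx : x ^ 2 = 1) (A : Subgroup ↥(fixedSubgroup x))
    [A.Normal] (hA : IsQuasisimple ↥A) : Almost p (↥A ⧸ center ↥A) := by
  rcases exists_good_model hp2 hX with ⟨K, _, _, _, hpp, h, ⟨e⟩⟩ | h
  · refine almost_congr e x A hA fun A' _ _ hA' => almost_of_good hp2 h _ ?_ A' hA'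
    rw [← map_pow, hx, map_one]
  · exact absurd h hR

/-- `A₅` -/
theorem kill_a5 {p : ℕ} (hp : p.Prime) (hp2 : p ≠ 2) {K : Type*} [Group K] [Finite K] [IsSimpleGroup K]
    (e : K ≃* ↥(alternatingGroup (Fin 5))) (h : Almost p K) : p = 5 := by
  have hna := not_comm_alt le_rfl e
  have hK : Nat.card K = 60 := by
    have := OrdDiv.alt_card le_rfl e
    have h5 : (5).factorial = 120 := rfl
    omega
  have hM : Nat.card (MulAut K) = 120 := by
    have h1 : Nat.card (MulAut ↥(alternatingGroup (Fin 5))) = 120 := by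
      rw [← Nat.card_congr (Equiv.ofBijective _ (S2119.result 5 (by norm_num) (by norm_num))), Nat.card_perm, Nat.card_fin]
      rfl
    rw [← h1]
    exact Nat.card_congr (MulAut.congr e).toEquiv
  have : Fact p.Prime := ⟨hp⟩
  obtain ⟨Y, hI, hY⟩ := h
  have h1 : p ∣ 120 := hM ▸ (H298.EOArith.dvd_card_of_hasSplit hY).trans (Subgroup.card_subgroup_dvd_card Y)
  have h2 : p ∣ 2 ^ 3 * (3 * 5) := h1
  rw [hp.dvd_mul, hp.dvd_mul] at h2
  rcases h2 with h2 | h2 | h2
  · exact absurd ((Nat.prime_dvd_prime_iff_eq hp Nat.prime_two).1 (hp.dvd_of_dvd_pow h2)) hp2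
  · exfalso
    obtain rfl := (Nat.prime_dvd_prime_iff_eq hp Nat.prime_three).1 h2
    obtain ⟨k, hk0, hk, hd⟩ := qtest_card hna Y hI hY (by rw [hK]; norm_num) Nat.prime_five (by norm_num) (by norm_num)
      (by rw [hK]; norm_num)
    have hv : (Nat.card (MulAut K)).factorization 3 ≤ 1 := by
      by_contra hc
      push Not at hc
      have h3 := (hp.pow_dvd_iff_le_factorization (k := 2) Nat.card_pos.ne').2 hc
      rw [hM] at h3
      norm_num at h3
    obtain rfl : k = 1 := by omega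
    norm_num at hd
  · exact (Nat.prime_dvd_prime_iff_eq hp Nat.prime_five).1 h2

/-- **Alternating components of odd degree.** -/
theorem desc_alt (T : OrdDiv.OrderTable.{u}) {K : Type u} [Group K] [Finite K] [IsSimpleGroup K] {p : ℕ} (hp : p.Prime)
    (hp2 : p ≠ 2) (hK : IsLieTypeChar p K) {x : MulAut K} (hx : x ^ 2 = 1) {A : Subgroup ↥(fixedSubgroup x)} [A.Normal]
    (hA : IsComponent A) {n : ℕ} (hn : 2 ≤ n) (e : ↥A ⧸ center ↥A ≃* ↥(alternatingGroup (Fin (2 * n + 1)))) :
    n = 2 ∧ p = 5 := by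
  have := hA.2.2
  have : Fact p.Prime := ⟨hp⟩
  have hperf := hA.2.1.commutator_eq_top
  by_cases hR : Lie.IsoRee K
  · exfalso
    have h1 := H340.CF.component (cf_ree.{u, u} hR x (by rw [← pow_two]; exact hx)) hA.1 hA.2.2 hperf
    rcases alt T Nat.prime_three (by norm_num) h1 (by omega) e with h | h <;> omega
  · have h1 := odd_row hp2 hK hR x hx A hA (inn_of_OI hp hp2 hA.2 (oi_alt (by omega) (by omega) e))
    obtain rfl := charBN_alt T h1 hn e
    exact ⟨rfl, kill_a5 hp hp2 e (almost_p hp2 hK hR x hx A hA.2)⟩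

/-- **The descent for the type `Five`**, from the groups of Lie type in characteristic 5. -/
theorem desc (T : OrdDiv.OrderTable.{u}) {K : Type u} [Group K] [Finite K] [IsSimpleGroup K] {p : ℕ} (hp : p.Prime)
    (hp2 : p ≠ 2) (hK : IsLieTypeChar p K) {x : MulAut K} (hx : x ^ 2 = 1) {A : Subgroup ↥(fixedSubgroup x)} [A.Normal]
    (hA : IsComponent A) (h5 : Five (↥A ⧸ center ↥A))
    (hexc : p ≠ 5 → H340.IsExcChar p K → IsLieTypeChar 5 (↥A ⧸ center ↥A) →
      Nonempty (↥A ⧸ center ↥A ≃* ↥(alternatingGroup (Fin 5)))) : p = 5 := by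
  have hperf := hA.2.1.commutator_eq_top
  rcases h5 with h5 | ⟨n, hn, ⟨e⟩⟩
  · have hcase : H340.IsClassicalChar p K ∨ H340.IsExcChar p K := by
      rcases hK with h1 | h1 | h1 | h1 | h1 | h1 | h1 | h1 | h1 | h1 | h1
      · exact Or.inl (Or.inl h1)
      · exact Or.inl (Or.inr (Or.inl h1))
      · exact Or.inl (Or.inr (Or.inr (Or.inl h1)))
      · exact Or.inl (Or.inr (Or.inr (Or.inr (Or.inl h1))))
      · exact Or.inl (Or.inr (Or.inr (Or.inr (Or.inr (Or.inl h1)))))
      · exact Or.inl (Or.inr (Or.inr (Or.inr (Or.inr (Or.inr h1)))))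
      · exact Or.inr (Or.inl h1)
      · exact Or.inr (Or.inr (Or.inl h1))
      · exact absurd h1.1 hp2
      · exact absurd h1.1 hp2
      · exact Or.inr (Or.inr (Or.inr h1))
    rcases hcase with hX | hX
    · have h1 : IsLieTypeChar p (↥A ⧸ center ↥A) :=
        H340.CF.component (H340.cf_lie_of_classical hp hp2 hX x (by rw [← pow_two]; exact hx)) hA.1 hA.2.2 hperf
      exact (sep_odd T Nat.prime_five (by norm_num) hp hp2 h5 h1).symm
    · by_contra h
      obtain ⟨e⟩ := hexc h hX h5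
      exact h (desc_alt T hp hp2 hK hx hA (n := 2) le_rfl e).2
  · exact (desc_alt T hp hp2 hK hx hA hn e).2

end Cfsg.Agent.H284.DescAlt
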