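import Cfsg.Agent.CoThreeStd.MTwelveCent
import Cfsg.Agent.OddHalf.D6.Harada
import Cfsg.Agent.H284.RankFix

/-!
# `M₁₂` has sectional 2-rank at most four (helper284)

`C(y) = ⟨y⟩ × S₅`, and `⟨y⟩ × V₄`, `V₄ ≤ A₅`, is self-centralizing.
-/

set_option autoImplicit false

namespace Cfsg.Agent.H284.M12Rank

open Subgroup Cfsg Cfsg.Agent.CoThreeStd.MTwelve Cfsg.Agent.H284.RankFix

theorem rank_H : SectionalPRankLE 2 4 H := by
  have : Fact (Nat.Prime 2) := ⟨Nat.prime_two⟩
  have : Finite H := Nat.finite_of_card_ne_zero (by rw [card_H]; norm_num)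
  let V : Subgroup (Equiv.Perm (Fin 5)) := four pa pb pa_sq pb_sq pab
  let f : ↥(zpowers y) × ↥V →* H :=
    { toFun := fun c => (c.1 : H) * w c.2
      map_one' := by
        change ((1 : ↥(zpowers y)) : H) * w ((1 : ↥V) : Equiv.Perm (Fin 5)) = 1
        rw [coe_one, coe_one, map_one, mul_one]
      map_mul' := fun c d => by
        change ((c.1 * d.1 : ↥(zpowers y)) : H) * w ((c.2 * d.2 : ↥V) : Equiv.Perm (Fin 5)) =
          (c.1 : H) * w c.2 * ((d.1 : H) * w d.2)
        rw [coe_mul, coe_mul, map_mul]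
        have h1 : Commute (d.1 : H) (w c.2) := by
          obtain ⟨k, hk⟩ := mem_zpowers_iff.1 d.1.2
          rw [← hk]
          exact (show Commute y (w c.2) from y_comm _).zpow_left k
        have h2 : (d.1 : H) * w c.2 = w c.2 * d.1 := h1
        calc (c.1 : H) * d.1 * (w c.2 * w d.2) = (c.1 : H) * (d.1 * w c.2) * w d.2 := by group
          _ = (c.1 : H) * (w c.2 * d.1) * w d.2 := by rw [h2]
          _ = (c.1 : H) * w c.2 * ((d.1 : H) * w d.2) := by group }
  have hyy : y * y = 1 := y_sq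
  have hzp : ∀ a : H, a ∈ zpowers y → a = 1 ∨ a = y := by
    intro a ha
    obtain ⟨k, rfl⟩ := mem_zpowers_iff.1 ha
    have h2 : y ^ (2 : ℤ) = 1 := by rw [zpow_ofNat, pow_two, hyy]
    rcases Int.even_or_odd k with ⟨l, hl⟩ | ⟨l, hl⟩
    · left
      rw [hl, ← two_mul, zpow_mul, h2, one_zpow]
    · right
      rw [hl, zpow_add, zpow_mul, h2, one_zpow, one_mul, zpow_one]
  have hf : Function.Injective f := by
    rw [injective_iff_map_eq_one]
    rintro ⟨a, b⟩ hab
    have h1 : (a : H) * w b = 1 := hab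
    rcases hzp a a.2 with h | h
    · rw [h, one_mul] at h1
      have h2 : (b : Equiv.Perm (Fin 5)) = 1 := w_injective (by rw [h1, map_one])
      exact Prod.ext (Subtype.ext h) (Subtype.ext h2)
    · exfalso
      rw [h] at h1
      apply y_ne_w ((b : Equiv.Perm (Fin 5))⁻¹)
      rw [map_inv]
      exact eq_inv_of_mul_eq_one_left h1
  have hcy : Nat.card ↥(zpowers y) = 2 := by
    rw [Nat.card_zpowers]
    exact orderOf_eq_prime (by rw [pow_two, hyy]) y_ne_one
  have hcV : Nat.card ↥V = 4 := card_four pa_sq pb_sq pab pa_ne pb_ne pa_ne_pb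
  have hcard : Nat.card ↥f.range = 8 := by
    rw [← Nat.card_congr (MonoidHom.ofInjective hf).toEquiv, Nat.card_prod, hcy, hcV]
  obtain ⟨S, hS⟩ := (IsPGroup.of_card (p := 2) (n := 3) (by rw [hcard]; norm_num)).exists_le_sylow
  have hmem : ∀ (a : H) (b : Equiv.Perm (Fin 5)), (a = 1 ∨ a = y) → b ∈ V → a * w b ∈ f.range := by
    intro a b ha hb
    have ha' : a ∈ zpowers y := by
      rcases ha with rfl | rfl
      · exact one_mem _
      · exact mem_zpowers _
    exact ⟨(⟨a, ha'⟩, ⟨b, hb⟩), rfl⟩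
  refine OddHalf.D6.Harada.rank_of_self S f.range hS ?_ ?_ hcard ?_
  · rintro _ ⟨⟨a, b⟩, rfl⟩ _ ⟨⟨c, d⟩, rfl⟩
    rw [← map_mul, ← map_mul]
    congr 1
    refine Prod.ext ?_ ?_
    · exact (IsMulCommutative.is_comm (M := ↥(zpowers y))).comm a c
    · exact Subtype.ext (comm_four (b : Equiv.Perm (Fin 5)) b.2 (d : Equiv.Perm (Fin 5)) d.2)
  · rintro _ ⟨⟨a, b⟩, rfl⟩
    rw [← map_mul]
    have h1 : ((a, b) : ↥(zpowers y) × ↥V) * (a, b) = 1 := by
      refine Prod.ext ?_ ?_
      · apply Subtype.ext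
        change (a : H) * a = 1
        rcases hzp a a.2 with h | h
        · rw [h, mul_one]
        · rw [h, hyy]
      · exact Subtype.ext (sq_four (b : Equiv.Perm (Fin 5)) b.2)
    rw [h1, map_one]
  · intro s _ hs
    have h1 : s * y = y * s := by
      have := hs y (by
        have h2 := hmem y 1 (Or.inr rfl) (one_mem V)
        rwa [map_one, mul_one] at h2)
      exact this
    have key : ∀ σ : Equiv.Perm (Fin 5), (∀ τ ∈ V, w σ * w τ = w τ * w σ) → σ ∈ V := by
      intro σ hσ
      have h3 : σ * pa = pa * σ := w_injective (by rw [map_mul, map_mul]; exact hσ pa (Or.inr (Or.inl rfl)))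
      have h4 : σ * pb = pb * σ := w_injective (by rw [map_mul, map_mul]; exact hσ pb (Or.inr (Or.inr (Or.inl rfl))))
      rcases cent_five σ h3 h4 with h | h | h | h
      · exact Or.inl h
      · exact Or.inr (Or.inl h)
      · exact Or.inr (Or.inr (Or.inl h))
      · exact Or.inr (Or.inr (Or.inr h))
    have hV : ∀ τ ∈ V, s * w τ = w τ * s := by
      intro τ hτ
      have h2 := hmem 1 τ (Or.inl rfl) hτ
      rw [one_mul] at h2
      exact hs _ h2
    obtain ⟨σ, rfl | rfl⟩ := cent_y s h1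
    · have h5 := hmem 1 σ (Or.inl rfl) (key σ hV)
      rwa [one_mul] at h5
    · refine hmem y σ (Or.inr rfl) (key σ ?_)
      intro τ hτ
      have h5 := hV τ hτ
      have h6 : y * (w σ * w τ) = y * (w τ * w σ) := by
        rw [← mul_assoc, h5, ← mul_assoc, ← mul_assoc, y_comm τ]
      exact mul_left_cancel h6

theorem rank_m12 {X : Type*} [Group X] (h : Spor.IsoM12 X) : SectionalPRankLE 2 4 X := by
  obtain ⟨e⟩ := h
  have : Finite Spor.M12 := Nat.finite_of_card_ne_zero (by
    have := card_H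
    rw [show Nat.card Spor.M12 = Nat.card H from rfl, this]
    norm_num)
  exact GH.Rank.of_injective (G := Spor.M12) rank_H e.toMonoidHom e.injective

end Cfsg.Agent.H284.M12Rank
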