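import Cfsg.Agent.H284.Sit97
import Cfsg.Agent.H284.M12Rank
import Cfsg.Agent.H300.SporIn
import Cfsg.Agent.H287.InnTwo
import Cfsg.Agent.J2Type.Cent5
import Cfsg.Agent.NotCT.Orders
import Cfsg.Agent.H815.RankG2
import Cfsg.Agent.H286.KillL
import Cfsg.Agent.OddHalf.Known
import Cfsg.Agent.H284.CharTwoComp
import Cfsg.Agent.H284.AltRow
import Cfsg.Agent.EvenType.ChevTwo
import Cfsg.Agent.S0253

/-!
# The rows of S3097 with `A = A₅` (helper284)

`Sit x A`, `A ≅ A₅`, `X` a known simple group: `X` has sectional 2-rank at most four.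
-/

set_option autoImplicit false
set_option linter.unusedSectionVars false

namespace Cfsg.Agent.H284.FiveRow

open Subgroup Cfsg
open Cfsg.Agent.CTwoTab
open Cfsg.Agent.CpAut
open Cfsg.Agent.SignalizersComponents.Components
open Cfsg.Agent.H287 Cfsg.Agent.NotCT Cfsg.Agent.H291 Cfsg.Agent.H291.RowsI

universe u v

section jtwo

open Cfsg.Agent.J2Type.Model Cfsg.Agent.J2Type.SPFacts Cfsg.Agent.J2Type.CStruct
open Cfsg.Agent.J3Type.OneClass Cfsg.Agent.J2Type.Base Cfsg.Agent.KFacts.J2.Basic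
open Cfsg.Agent.Co2Type.Quad Cfsg.Agent.KFacts.AutLarge Cfsg.Agent.KFacts.J3Sheet
open Cfsg.Agent.KFacts Cfsg.Agent.OddHalf.D4.Spor Cfsg.Agent.OddHalf.D4.Spor.JTwo

/-- `J₂`: a four-group centralizing a component -/
theorem j2_four {X : Type u} [Group X] [Finite X] (h : Spor.IsoJ2 X) {z : X} (hz : orderOf z = 2) {K : Subgroup X}
    (hK : IsComponentOf K (centralizer ({z} : Set X))) : ∃ a b : X, a * z = z * a ∧ b * z = z * b ∧
      a ∈ centralizer (K : Set X) ∧ b ∈ centralizer (K : Set X) ∧ orderOf a = 2 ∧ orderOf b = 2 ∧ a ≠ b ∧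
      a * b = b * a := by
  obtain ⟨t, u, Q, v, ρ, D⟩ := Cfsg.Agent.KFacts.J2.Facts.exists_dat_of h
  have key : ∀ s c : X, z = c * s * c⁻¹ →
      IsComponentOf (K.map (MulAut.conj c⁻¹).toMonoidHom) (centralizer ({s} : Set X)) := by
    intro s c hc
    have h1 := CTwoTab.isComponentOf_map (MulAut.conj c⁻¹) hK
    rw [map_centralizer_singleton] at h1
    rw [MulAut.conj_apply] at h1
    have h2 : c⁻¹ * z * c⁻¹⁻¹ = s := by rw [hc]; group
    rw [h2] at h1
    exact h1
  rcases D.F.cover z hz with h | h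
  · exfalso
    obtain ⟨c, hc⟩ := isConj_iff.1 h
    have hL := large D.cardC D.M
    have S := QMinus.sheet D.cardC D.M
    have : Fact (Nat.Prime 2) := ⟨Nat.prime_two⟩
    refine no_comp_of_pGroup (p := 2) (R := Q.map (centralizer ({t} : Set X)).subtype) (map_subtype_le _) ?_ ?_ ?_ _
      (key t c hc.symm)
    · intro c hc r hr
      exact hL.conj_mem c (mem_cent.1 hc) r hr
    · rw [IsPGroup.iff_card]
      exact ⟨5, by rw [S.card]; norm_num⟩
    · intro c _ h
      rcases cen_Q D h with rfl | rfl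
      · exact one_mem _
      · exact t_mem_Q D
  · obtain ⟨c, hc⟩ := isConj_iff.1 h
    obtain ⟨f, U, V, H0, F⟩ := Cfsg.Agent.J2Type.CentU.main D.F
    obtain ⟨e⟩ := equiv_H0 D F
    have h1 : K.map (MulAut.conj c⁻¹).toMonoidHom = H0 := comp_eq (quasi_alt le_rfl e) F.str.le
      (fun P hP hperf => perfect_le_of_sq (fun a ha => F.str.sq_mem a ha) P hP hperf) (key u c hc.symm)
    have h60 : Nat.card ↥H0 = 60 := (cards_alt le_rfl e).1
    obtain ⟨a, b, ha, hb, ha1, hb1, hne, -⟩ := H300.KillLem.exists_gens F.cardV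
      (fun a ha => J2Type.Cent5.sq_V D.F F ha) (fun a ha b hb => J2Type.Cent5.comm_V D.F F ha hb)
    have hcen : ∀ g : X, g ∈ V → (c * g * c⁻¹) * z = z * (c * g * c⁻¹) ∧ c * g * c⁻¹ ∈ centralizer (K : Set X) ∧
        (g ≠ 1 → orderOf (c * g * c⁻¹) = 2) := by
      intro g hg
      refine ⟨?_, ?_, ?_⟩
      · have h3 : g * u = u * g := ((F.memV g).1 hg).2.1
        rw [← hc]
        calc c * g * c⁻¹ * (c * u * c⁻¹) = c * (g * u) * c⁻¹ := by group
          _ = c * (u * g) * c⁻¹ := by rw [h3]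
          _ = c * u * c⁻¹ * (c * g * c⁻¹) := by group
      · rw [mem_centralizer_iff]
        intro k hk
        have h3 : c⁻¹ * k * c ∈ H0 := by
          rw [← h1]
          refine ⟨k, hk, ?_⟩
          change c⁻¹ * k * c⁻¹⁻¹ = _
          rw [inv_inv]
        have h4 := J2Type.Cent5.V_comm D.F F h60 hg h3
        calc k * (c * g * c⁻¹) = c * ((c⁻¹ * k * c) * g) * c⁻¹ := by group
          _ = c * (g * (c⁻¹ * k * c)) * c⁻¹ := by rw [h4]
          _ = c * g * c⁻¹ * k := by group
      · intro hg1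
        have h3 : orderOf (c * g * c⁻¹) = orderOf g := orderOf_injective (MulAut.conj c).toMonoidHom
          (MulAut.conj c).injective g
        rw [h3]
        exact orderOf_eq_prime (by rw [pow_two]; exact J2Type.Cent5.sq_V D.F F hg) hg1
    refine ⟨c * a * c⁻¹, c * b * c⁻¹, (hcen a ha).1, (hcen b hb).1, (hcen a ha).2.1, (hcen b hb).2.1,
      (hcen a ha).2.2 ha1, (hcen b hb).2.2 hb1, ?_, ?_⟩
    · intro h3
      exact hne (mul_left_cancel (mul_right_cancel h3))
    · have h3 := J2Type.Cent5.comm_V D.F F ha hb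
      calc c * a * c⁻¹ * (c * b * c⁻¹) = c * (a * b) * c⁻¹ := by group
        _ = c * (b * a) * c⁻¹ := by rw [h3]
        _ = c * b * c⁻¹ * (c * a * c⁻¹) := by group

end jtwo

section inner

variable {X : Type u} [Group X] [Finite X] {z : X} {K : Subgroup X}

theorem row_of {S : ℕ → ℕ → Prop} (h : CompCard S X) (hS : ∀ a b, S a b → a = 60 → False)
    (hz : orderOf z = 2) (hK : IsComponentOf K (centralizer ({z} : Set X))) (hD : Nat.card ↥K = 60) : False :=
  hS _ _ (h z hz K hK) hD

theorem row_fix {S : ℕ → ℕ → Prop} (hc : center X = ⊥) (h : FixCard S X) (hS : ∀ a b, S a b → a = 60 → False)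
    (hz : orderOf z = 2) (hK : IsComponentOf K (centralizer ({z} : Set X))) (hD : Nat.card ↥K = 60) : False :=
  row_of (h.compCard hc) hS hz hK hD

theorem row_b (h : Spor.IsoB X) (hz : orderOf z = 2) (hK : IsComponentOf K (centralizer ({z} : Set X)))
    (e : ↥K ≃* ↥(alternatingGroup (Fin 5))) : False := by
  obtain ⟨K4, _, _, hK4⟩ := BabyTab.exists_field
  obtain ⟨f⟩ := h
  have h1 := CTwoTab.isComponentOf_map f hK
  rw [map_centralizer_singleton] at h1
  have h2 := (BabyTab.table K4 hK4 (f z) (by rw [MulEquiv.orderOf_eq, hz]) _ h1).congr (subMap f K).symm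
  have : Finite (Lie.twistedE6 K4 2) := Nat.finite_of_card_ne_zero (by rw [BabyTab.card_E K4 hK4]; norm_num)
  have hE : center (Lie.twistedE6 K4 2) = ⊥ := CpAut.TwoInner.center_eq_bot_of_card
    (MonsterN.EInst.isSimple K4 hK4) (by rw [BabyTab.card_E K4 hK4]; norm_num)
  obtain ⟨hK60, -⟩ := cards_alt le_rfl e
  have hKc : Nat.card ↥K = 60 := hK60
  have hcen : center ↥K = ⊥ := by
    have : IsSimpleGroup ↥K := simple_alt le_rfl e
    exact CTwoTab.center_eq_bot_of_simple (na_alt le_rfl e)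
  have e' : ↥K ⧸ center ↥K ≃* ↥(alternatingGroup (Fin 5)) :=
    ((QuotientGroup.quotientMulEquivOfEq hcen).trans QuotientGroup.quotientBot).trans e
  have h4 := h2.cases hE e'
  rw [BabyTab.card_E K4 hK4] at h4
  rcases h4 with h4 | ⟨h4, h5⟩
  · rw [← Nat.card_congr e.toEquiv, hKc] at h4
    norm_num at h4
  · have h10 : Nat.card (MulAut ↥(alternatingGroup (Fin 5))) = (5 : ℕ).factorial := by
      rw [← Nat.card_congr (Equiv.ofBijective _ (S2119.result 5 (by omega) (by omega))), Nat.card_perm, Nat.card_fin]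
    rw [h10] at h5
    revert h5
    decide

/-- **The components `A₅` of the centralizers of inner involutions.** -/
theorem inner_five [IsSimpleGroup X] (h : IsSporadicGroup X) (hz : orderOf z = 2)
    (hK : IsComponentOf K (centralizer ({z} : Set X))) (e : ↥K ≃* ↥(alternatingGroup (Fin 5))) :
    Spor.IsoM12 X ∨ Spor.IsoJ1 X ∨ Spor.IsoJ2 X := by
  have hD : Nat.card ↥K = 60 := (cards_alt le_rfl e).1
  have hc : center X = ⊥ := by
    refine CpAut.TwoInner.center_eq_bot_of_card inferInstance ?_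
    intro hp
    have h1 : Nat.card ↥K ∣ Nat.card X := card_subgroup_dvd_card K
    rw [hD] at h1
    have h2 : 2 ∣ Nat.card X := (by norm_num : 2 ∣ 60).trans h1
    have h4 := (Nat.prime_dvd_prime_iff_eq Nat.prime_two hp).1 h2
    rw [← h4] at h1
    norm_num at h1
  rcases h with h | h | h | h | h | h | h | h | h | h | h | h | h | h | h | h | h | h | h | h | h | h | h | h | h | h
  · exact (row_fix hc (fix_m11 h) (fun _ _ h => h.elim) hz hK hD).elim
  · exact Or.inl h
  · exact (row_of (compCard_m22 h) (fun _ _ h => h.elim) hz hK hD).elim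
  · exact (row_fix hc (fix_m23 h) (fun _ _ h => h.elim) hz hK hD).elim
  · exact (row_fix hc (fix_m24 h) (fun _ _ h => h.elim) hz hK hD).elim
  · exact Or.inr (Or.inl h)
  · exact Or.inr (Or.inr h)
  · exact (row_of (compCard_j3 h) (fun _ _ h => h.elim) hz hK hD).elim
  · exact (row_fix hc (fix_j4 h) (fun _ _ h => h.elim) hz hK hD).elim
  · exact (row_fix hc (fix_co1 h) (fun a b h _ => by omega) hz hK hD).elim
  · exact (row_fix hc (fix_co2 h) (fun _ _ h => h.elim) hz hK hD).elim
  · exact (row_fix hc (fix_co3 h) (fun a b h hab => by omega) hz hK hD).elim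
  · exact (row_of (TwoAlt.compCard_mcl h) (fun a b h hab => by omega) hz hK hD).elim
  · exact (row_of (compCard_hs h) (fun a b h hab => by omega) hz hK hD).elim
  · exact (row_of (compCard_suz h) (fun a b h hab => by omega) hz hK hD).elim
  · exact (row_of (compCard_he h) (fun a b h hab => by omega) hz hK hD).elim
  · exact (row_of (compCard_ru h) (fun a b h _ => by omega) hz hK hD).elim
  · exact (row_of (InnON.compCard h) (fun a b h hab => by omega) hz hK hD).elim
  · exact (row_of (TwoAlt.compCard_ly h) (fun a b h hab => by omega) hz hK hD).elim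
  · exact (row_of (compCard_fi22 h) (fun a b h hab => by omega) hz hK hD).elim
  · exact (row_fix hc (fix_fi23 h) (fun a b h hab => by omega) hz hK hD).elim
  · exact (row_of (compCard_fi24 h) (fun a b h hab => by omega) hz hK hD).elim
  · exact (row_of (compCard_hn h) (fun a b h hab => by omega) hz hK hD).elim
  · exact (row_fix hc (fix_th h) (fun _ _ h => h.elim) hz hK hD).elim
  · exact (row_b h hz hK e).elim
  · exact (row_fix hc (fix_m h) (fun a b h hab => by omega) hz hK hD).elim

end inner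

section row

open Cfsg.Agent.H284.Sit97

variable {X : Type u} [Group X] [Finite X] [hs : IsSimpleGroup X] {x : MulAut X} {A : Subgroup ↥(fixedSubgroup x)}

theorem quot_five (e : ↥A ≃* ↥(alternatingGroup (Fin 5))) :
    Nonempty (↥A ⧸ center ↥A ≃* ↥(alternatingGroup (Fin 5))) ∧ center ↥A = ⊥ := by
  have hcen : center ↥A = ⊥ := by
    have : IsSimpleGroup ↥A := simple_alt le_rfl e
    exact CTwoTab.center_eq_bot_of_simple (na_alt le_rfl e)
  exact ⟨⟨((QuotientGroup.quotientMulEquivOfEq hcen).trans QuotientGroup.quotientBot).trans e⟩, hcen⟩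

/-- the sporadic groups -/
theorem row_spor (S : Sit x A) (e : ↥A ≃* ↥(alternatingGroup (Fin 5))) (h : IsSporadicGroup X) (hc : center X = ⊥) :
    SectionalPRankLE 2 4 X := by
  obtain ⟨⟨e'⟩, hcA⟩ := quot_five e
  by_cases hout : ∃ g, x = MulAut.conj g
  · obtain ⟨z, hz⟩ := hout
    obtain ⟨hz2, hzf, hzA⟩ := S.inner_mem hc hz
    have hK := S.comp_inner hz
    have eK : ↥(A.map (fixedSubgroup x).subtype) ≃* ↥(alternatingGroup (Fin 5)) :=
      (A.equivMapOfInjective _ (fixedSubgroup x).subtype_injective).symm.trans e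
    rcases inner_five h hz2 hK eK with h | h | h
    · exact M12Rank.rank_m12 h
    · refine H815.RankG2.rank_of_not_dvd ?_
      rw [NotCT.Orders.j1 h]
      norm_num
    · exfalso
      obtain ⟨a, b, haz, hbz, ha, hb, ha2, hb2, hne, hab⟩ := j2_four h hz2 hK
      have hfe := Sit.fix_eq hz
      have haf : a ∈ fixedSubgroup x := by rw [hfe]; exact mem_centralizer_singleton_iff.2 haz
      have hbf : b ∈ fixedSubgroup x := by rw [hfe]; exact mem_centralizer_singleton_iff.2 hbz
      have hcen : ∀ g : X, ∀ hg : g ∈ fixedSubgroup x, g ∈ centralizer ((A.map (fixedSubgroup x).subtype : Subgroup X) : Set X) →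
          (⟨g, hg⟩ : ↥(fixedSubgroup x)) ∈ centralizer (A : Set ↥(fixedSubgroup x)) := by
        intro g hg hgc
        rw [mem_centralizer_iff]
        intro k hk
        exact Subtype.ext (mem_centralizer_iff.1 hgc (k : X) ⟨k, hk, rfl⟩)
      have h3 := S.cyc2 (hcen a haf ha) (hcen b hbf hb) ((orderOf_mk _ _).trans ha2) ((orderOf_mk _ _).trans hb2)
        (Subtype.ext hab)
      exact hne (congrArg Subtype.val h3)
  · exact S.row_out hout tight_five e'

/-- **The rows `A = A₅`.** -/
theorem row (S : Sit x A) (e : ↥A ≃* ↥(alternatingGroup (Fin 5))) (hna : ¬ IsMulCommutative X)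
    (hk : IsKnownSimple' X)
    (hodd : ∀ p : ℕ, p.Prime → p ≠ 2 → IsLieTypeChar p X → H286.Row.Row p X) : SectionalPRankLE 2 4 X := by
  have hc : center X = ⊥ := CTwoTab.center_eq_bot_of_simple hna
  obtain ⟨⟨e'⟩, hcA⟩ := quot_five e
  rcases OddHalf.Known.classify hna hk with ⟨m, hm, ⟨f⟩⟩ | ⟨p, hp, hp2, h1⟩ | h1 | h1
  · obtain ⟨n, k, hn, hk1, hmn, ⟨g⟩, -, hfour⟩ := AltComp.table hm f S.hxx S.hx1 S.comp
    have hn5 : n = 5 := AltRow.deg_eq hn le_rfl (g.symm.trans e)
    by_cases hk2 : 2 ≤ k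
    · exfalso
      obtain ⟨a, b, ha, hb, ha2, hb2, hab, hcab⟩ := hfour hk2
      exact hab (S.cyc2 ha hb ha2 hb2 hcab)
    · have hm7 : m = 7 := by omega
      subst hm7
      refine H815.RankG2.rank_of_not_dvd ?_
      rw [Nat.card_congr f.toEquiv, nat_card_alternatingGroup, Nat.card_fin]
      decide
  · have : Fact p.Prime := ⟨hp⟩
    have : Fact (Nat.Prime 5) := ⟨by norm_num⟩
    obtain ⟨g⟩ := S0253.result (F := ZMod 5) (ZMod.card 5)
    refine H286.KillL.main_cyclic hp2 (hodd p hp hp2 h1) S.norm S.comp.2 (e'.trans g.symm) S.cyc (fun y => ?_) S.hx1 ?_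
      (H286.KillL.dih_l2_five (ZMod.card 5))
    · exact congrArg (fun f : MulAut X => f y) S.hxx
    · rw [hcA, card_bot]
      exact odd_one
  · have hact : CharTwoComp.ACT X := fun _ hu => EvenType.CharTwoCent.char2_centralizer (EvenType.ChevTwo.charTwo hna
      (h1.elim Or.inl fun h => Or.inr (Or.inl ⟨rfl, Or.inr (Or.inr h)⟩))) hu
    obtain ⟨-, h2, h3, -⟩ := CharTwoComp.of_fix hact S.hxx S.comp
    exact RankFix.rank_a5 S.hxx S.hx1 h2 h3 e
  · exact row_spor S e h1 hc

end row

end Cfsg.Agent.H284.FiveRow
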