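import Mathlib
import Cfsg.Agent.Cit.OneBasic

/-!
# Commutators in a group with cyclic Sylow 2-subgroups (helper284)
-/

set_option autoImplicit false

namespace Cfsg.Agent.H284.NC

open Subgroup Cfsg.Agent.Cit
open scoped commutatorElement

/-- in a group with a cyclic Sylow 2-subgroup no commutator is an involution -/
theorem commutator_ne {X : Type*} [Group X] [Finite X] (S : Sylow 2 X) (hS : IsCyclic (S : Subgroup X)) (a b : X) :
    orderOf ⁅a, b⁆ ≠ 2 := by
  intro h
  have h2 : 2 ∣ Nat.card X := h ▸ orderOf_dvd_natCard _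
  have hmf : (Nat.card X).minFac = 2 := (Nat.minFac_eq_two_iff _).2 h2
  have hcompl := IsCyclic.isComplement' (P := S) hmf hS
  set K := (MonoidHom.transferSylow S (hS.normalizer_le_centralizer hmf)).ker
  have h3 : ⁅a, b⁆ ∈ K := by
    rw [MonoidHom.mem_ker, map_commutatorElement, commutatorElement_eq_one_iff_mul_comm]
    exact (IsCyclic.isMulCommutative (α := S)).is_comm.comm _ _
  have h4 : orderOf (⟨⁅a, b⁆, h3⟩ : K) ∣ Nat.card K := orderOf_dvd_natCard _
  rw [Subgroup.orderOf_mk, h] at h4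
  have h5 : Nat.card K = (S : Subgroup X).index := hcompl.index_eq_card.symm
  rw [h5] at h4
  exact S.not_dvd_index h4

/-- no commutator of two elements of `C(A)` is an involution -/
def NoCom {G : Type*} [Group G] (A : Subgroup G) : Prop :=
  ∀ a ∈ centralizer (A : Set G), ∀ b ∈ centralizer (A : Set G), orderOf ⁅a, b⁆ ≠ 2

variable {G : Type*} [Group G] {A : Subgroup G}

theorem noCom [Finite G] (hR : ∀ R : Sylow 2 ↥(centralizer (A : Set G)), IsCyclic ↥(R : Subgroup ↥(centralizer (A : Set G)))) :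
    NoCom A := by
  intro a ha b hb h
  obtain ⟨R⟩ : Nonempty (Sylow 2 ↥(centralizer (A : Set G))) := inferInstance
  refine commutator_ne R (hR R) ⟨a, ha⟩ ⟨b, hb⟩ ?_
  rw [← Subgroup.orderOf_coe]
  exact h

theorem NoCom.cj (h : NoCom A) (g : G) : NoCom (Cit.cj g A) := by
  have key : ∀ x ∈ centralizer (Cit.cj g A : Set G), g⁻¹ * x * g ∈ centralizer (A : Set G) := by
    intro x hx
    rw [mem_centralizer_iff] at hx ⊢
    intro a ha
    have h1 := hx (g * a * g⁻¹) (conj_mem_cj ha)
    calc a * (g⁻¹ * x * g) = g⁻¹ * (g * a * g⁻¹ * x) * g := by group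
      _ = g⁻¹ * (x * (g * a * g⁻¹)) * g := by rw [h1]
      _ = g⁻¹ * x * g * a := by group
  intro a ha b hb hab
  refine h _ (key a ha) _ (key b hb) ?_
  have e : ⁅g⁻¹ * a * g, g⁻¹ * b * g⁆ = (MulAut.conj g⁻¹).toMonoidHom ⁅a, b⁆ := by
    show _ = g⁻¹ * ⁅a, b⁆ * g⁻¹⁻¹
    rw [commutatorElement_def, commutatorElement_def]
    group
  rw [e, orderOf_injective _ (MulAut.conj g⁻¹).injective, hab]

theorem NoCom.map {L : Type*} [Group L] (h : NoCom A) (e : G ≃* L) : NoCom (A.map e.toMonoidHom) := by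
  have key : ∀ x, e x ∈ centralizer (A.map e.toMonoidHom : Set L) → x ∈ centralizer (A : Set G) := by
    intro x hx
    rw [mem_centralizer_iff] at hx ⊢
    intro a ha
    have h1 := hx (e a) ⟨a, ha, rfl⟩
    rwa [← map_mul, ← map_mul, e.injective.eq_iff] at h1
  intro a ha b hb
  obtain ⟨a, rfl⟩ := e.surjective a
  obtain ⟨b, rfl⟩ := e.surjective b
  have h1 := h a (key a ha) b (key b hb)
  rw [← map_commutatorElement, e.orderOf_eq]
  exact h1

theorem NoCom.subgroupOf (h : NoCom A) {E : Subgroup G} (hAE : A ≤ E) : NoCom (A.subgroupOf E) := by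
  have key : ∀ x : E, x ∈ centralizer (A.subgroupOf E : Set E) → (x : G) ∈ centralizer (A : Set G) := by
    intro x hx
    rw [mem_centralizer_iff] at hx ⊢
    intro a ha
    exact congrArg Subtype.val (hx ⟨a, hAE ha⟩ (mem_subgroupOf.2 ha))
  intro a ha b hb hab
  refine h _ (key a ha) _ (key b hb) ?_
  rw [← hab, ← Subgroup.orderOf_coe]
  rfl

end Cfsg.Agent.H284.NC
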