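import Cfsg.Agent.Cit.CoreOneHex
import Cfsg.Agent.Cit.HexSL
import Cfsg.Agent.SignalizersComponents.StandardTools
import Cfsg.Agent.SignalizersComponents.QsBasic
import Cfsg.Agent.H284.NoCom

/-!
# `G₂(q)`, `³D₄(q)` have no standard subgroup of 2-rank one with cyclic centralizer (helper284)
-/

set_option autoImplicit false

namespace Cfsg.Agent.H284.HexNo

open Subgroup Cfsg Cfsg.Agent.Cit Cfsg.Agent.Cit.HexBase Cfsg.Agent.Lib.SL2Mat
open Cfsg.Agent.H284.NC
open scoped commutatorElement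

theorem com_of_sl {F : Type*} [Field F] [Finite F] {L : Type*} [Group L] (ρ : SL2 F →* L) {z : L} (hz : orderOf z = 2)
    (h : ρ (dg (-1) (neg_ne_zero.2 one_ne_zero)) = z) {K : Subgroup L} (hK : ∀ v, ρ v ∈ centralizer (K : Set L)) :
    ¬ NoCom K := by
  intro hn
  obtain ⟨i, j, -, -, h3⟩ := exists_quat (F := F)
  refine hn (ρ j) (hK j) (ρ i) (hK i) ?_
  have h4 : ⁅j, i⁆ = dg (-1) (neg_ne_zero.2 one_ne_zero) := by
    rw [commutatorElement_def, h3]
    group
  rw [← map_commutatorElement, h4, h, hz]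

variable {E : Type*} [Field E] {σ : E ≃+* E} {L : Type*} [Group L]

theorem not_of_z [Finite E] [Finite L] (c : HexGrp σ L) (h2 : (2 : E) ≠ 0) {K : Subgroup L} (hq : IsQuasisimple K)
    (hK : K ≤ centralizer {c.z}) (hN : centralizer {c.z} ≤ normalizer (K : Set L)) : ¬ NoCom K := by
  have : Finite ↥(fx σ) := Subtype.finite
  have hz : orderOf c.z = 2 := c.orderOf_z h2
  have h1 : K ≤ normalizer (c.K1 : Set L) := by
    have key : ∀ g ∈ K, ∀ x ∈ c.K1, g * x * g⁻¹ ∈ c.K1 := by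
      rintro g hg _ ⟨v, rfl⟩
      obtain ⟨v', hv'⟩ := c.CZ_pb h2 (mem_centralizer_singleton_iff.1 (hK hg)) v
      exact ⟨v', hv'.symm⟩
    intro g hg
    rw [mem_normalizer_iff]
    intro x
    refine ⟨key g hg x, fun h => ?_⟩
    have h' := key g⁻¹ (inv_mem hg) _ h
    have e : g⁻¹ * (g * x * g⁻¹) * g⁻¹⁻¹ = x := by group
    rwa [e] at h'
  rcases SignalizersComponents.StandardTools.le_or_le_centralizer (M := c.K1) hq
    (le_trans c.K1_le_CZ hN) h1 with h | h
  · refine com_of_sl c.p4 hz c.z_eq_p4.symm fun v => ?_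
    rw [mem_centralizer_iff]
    intro x hx
    obtain ⟨w, rfl⟩ := h hx
    exact c.comm_pb_p4 w v
  · exact com_of_sl c.pb hz rfl fun v => h ⟨v, rfl⟩

theorem not_hex [Finite E] [Finite L] (c : HexGrp σ L) (h2 : (2 : E) ≠ 0) {K : Subgroup L} (hq : IsQuasisimple K)
    {t : L} (ht : t * t = 1) (h1 : t ≠ 1)
    (hK : K ≤ centralizer {t}) (hN : centralizer {t} ≤ normalizer (K : Set L)) : ¬ NoCom K := by
  intro hn
  obtain ⟨g, hg⟩ := isConj_iff.1 (c.isConj_z h2 ht h1)
  have e : cj g (centralizer {t}) = centralizer {c.z} := by rw [cj_centralizer, hg]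
  refine not_of_z c h2 (K := cj g K) (SignalizersComponents.QsBasic.isQuasisimple_of_mulEquiv (cjEquiv g K) hq) ?_ ?_
    (hn.cj g)
  · rw [← e]; exact Subgroup.map_mono hK
  · rw [← e]
    rintro _ ⟨x, hx, rfl⟩
    have h3 := hN hx
    rw [mem_normalizer_iff_cj] at h3 ⊢
    show cj (g * x * g⁻¹) (cj g K) = cj g K
    rw [← cj_mul, inv_mul_cancel_right, cj_mul, h3]

/-- **The exclusion of `G₂(q)`, `³D₄(q)`.** -/
theorem not_g2d4 {G : Type*} [Group G] [Finite G] (h : CoreOne.G2D4 G) {K : Subgroup G} (hq : IsQuasisimple K)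
    {t : G} (ht : orderOf t = 2)
    (hK : K ≤ centralizer {t}) (hN : centralizer {t} ≤ normalizer (K : Set G)) : ¬ NoCom K := by
  have key : ∀ {E : Type} [Field E] [Finite E] {σ : E ≃+* E} {L : Type} [Group L] (c : HexGrp σ L)
      (h2 : (2 : E) ≠ 0) (e : G ≃* L), ¬ NoCom K := by
    intro E _ _ σ L _ c h2 e hn
    have : Finite L := Finite.of_equiv G e.toEquiv
    have ht' : t * t = 1 := by rw [← pow_two, ← ht, pow_orderOf_eq_one]
    have ht1 : t ≠ 1 := by
      rintro rfl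
      rw [orderOf_one] at ht
      exact absurd ht (by norm_num)
    have hcm : ∀ x : G, e x ∈ centralizer {e t} ↔ x ∈ centralizer {t} := by
      intro x
      rw [mem_centralizer_singleton_iff, mem_centralizer_singleton_iff, ← map_mul, ← map_mul, e.injective.eq_iff]
    refine not_hex c h2 (K := K.map e.toMonoidHom) (t := e t)
      (SignalizersComponents.QsBasic.isQuasisimple_of_mulEquiv (K.equivMapOfInjective e.toMonoidHom e.injective) hq)
      (by rw [← map_mul, ht', map_one]) (by rwa [Ne, e.map_eq_one_iff]) ?_ ?_ (hn.map e)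
    · rintro _ ⟨x, hx, rfl⟩
      exact (hcm x).2 (hK hx)
    · intro y hy
      obtain ⟨x, rfl⟩ := e.surjective y
      have h3 := mem_normalizer_iff.1 (hN ((hcm x).1 hy))
      rw [mem_normalizer_iff]
      intro y
      obtain ⟨w, rfl⟩ := e.surjective y
      have h4 : ∀ w : G, e w ∈ K.map e.toMonoidHom ↔ w ∈ K := by
        intro w
        constructor
        · rintro ⟨v, hv, hvw⟩
          rwa [← e.injective hvw]
        · intro hw
          exact ⟨w, hw, rfl⟩
      rw [h4, h3 w, ← map_mul, ← map_inv, ← map_mul, h4]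
  obtain ⟨p, -, hp, F, _, _, _, hG⟩ := h
  have h2 := CoreOneHex.two_ne_zero_of_char hp F
  rcases hG with ⟨⟨e⟩⟩ | ⟨q, hq, hF, ⟨e⟩⟩
  · exact key (HexG2.g2 F h2) h2 e
  · obtain ⟨σ, -, ⟨c⟩⟩ := HexD4.exists_d4 hF
    exact key c h2 e

end Cfsg.Agent.H284.HexNo
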