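import Cfsg.Agent.Cit.LongLeafOne
import Cfsg.Agent.SmallSimple.PSLTwoPart

/-!
# The members of `Om` in `PSL₃(q)`, `PSU₃(q)` are isomorphic to `SL₂(q)` (helper284)
-/

set_option autoImplicit false

namespace Cfsg.Agent.H284.LeafIso

open Subgroup Cfsg Matrix Cfsg.Agent.Cit Cfsg.Agent.Cit.LongAbs Cfsg.Agent.Cit.LongBlock Cfsg.Agent.Cit.LongQuot
  Cfsg.Agent.Cit.LongMain Cfsg.Agent.Cit.LongModel Cfsg.Agent.Cit.LongInst Cfsg.Agent.Cit.LongTwo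
  Cfsg.Agent.Cit.LongFinal Cfsg.Agent.Cit.LongConj Cfsg.Agent.Cit.LongLeaf Cfsg.Agent.Cit.LongLeafCh
  Cfsg.Agent.Cit.LongLeafEnd Cfsg.Agent.Nodes.Chart

section Leaf

variable {Γ : Type*} [Group Γ] [Finite Γ] {F : Type*} [Field F] {κ : Type*} [Fintype κ] [DecidableEq κ]
  {R : Rep Γ F κ} {F1 : Type} [Field F1] [Fintype F1]

theorem leaf_iso (h : Leaf R F1) {Om : Set (Subgroup (Γ ⧸ center Γ))} (B : Base Om)
    (hz : ∃ K ∈ Om, ∃ g, g * zz K * g⁻¹ = z0 R) : ∀ J ∈ Om, Nonempty (↥J ≃* SpecialLinearGroup (Fin 2) F1) := by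
  obtain ⟨K, hK, g, hg⟩ := hz
  obtain ⟨g, hg⟩ := h.exists_cj B.hyp hK (B.ty K hK) hg
  have h1 : D1 R ∈ Om := by rw [← hg]; exact B.hyp.conj K hK g
  intro J hJ
  obtain ⟨x, rfl⟩ := B.cls _ h1 J hJ
  have := h.good.ne
  obtain ⟨e⟩ := h.good.e1
  exact ⟨((e.symm.trans (D1Equiv R)).trans (cjEquiv x (D1 R))).symm⟩

end Leaf

theorem pull {G : Type*} [Group G] {Om : Set (Subgroup G)} {L : Type*} [Group L] (e : G ≃* L) {F1 : Type} [Field F1] [Fintype F1]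
    (h : ∀ J ∈ Cit.img e.toMonoidHom Om, Nonempty (↥J ≃* SpecialLinearGroup (Fin 2) F1)) :
    ∀ J ∈ Om, Nonempty (↥J ≃* SpecialLinearGroup (Fin 2) F1) := by
  intro J hJ
  obtain ⟨f⟩ := h (J.map e.toMonoidHom) ⟨J, hJ, rfl⟩
  exact ⟨(J.equivMapOfInjective e.toMonoidHom e.injective).trans f⟩

variable {F : Type} [Field F] [Fintype F] (ho : Odd (Fintype.card F))
variable {G : Type*} [Group G] [Finite G] {Om : Set (Subgroup G)}
include ho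

theorem psl3 (B : Base Om) (hc : TwoCen Om) (e : G ≃* ProjectiveSpecialLinearGroup (Fin 3) F) :
    ∀ J ∈ Om, Nonempty (↥J ≃* SpecialLinearGroup (Fin 2) F) := by
  have B' := B.map e
  obtain ⟨K, hK, S, hS⟩ := hc.map B e
  refine pull e ?_
  obtain ⟨g, hg⟩ := sl3_two_central ho S (B'.hyp.zz_mul hK) (B'.hyp.zz_ne hK) hS
  exact leaf_iso (sl_leaf1 ho) B' ⟨K, hK, g, hg⟩

variable {q : ℕ} (hF : Fintype.card F = q ^ 2)
include hF

theorem psu3 (B : Base Om) (hc : TwoCen Om) (e : G ≃* PSU 3 F q) :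
    ∀ J ∈ Om, Nonempty (↥J ≃* SpecialLinearGroup (Fin 2) (KK hF)) := by
  have B' := B.map e
  obtain ⟨K, hK, S, hS⟩ := hc.map B e
  refine pull e ?_
  obtain ⟨g, hg⟩ := su3_two_central ho hF S (B'.hyp.zz_mul hK) (B'.hyp.zz_ne hK) hS
  exact leaf_iso (su_leaf1 ho hF) B' ⟨K, hK, g, hg⟩

end Cfsg.Agent.H284.LeafIso
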