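import Cfsg.Agent.H291.RowsB
import Cfsg.Agent.H287.HNd
import Cfsg.Agent.H287.OutMcL

/-!
# Outer involutory automorphisms of `McL` and `HN` (helper284)

* `seven_mcl` : `7` does not divide the order of the group of fixed points of an outer involutory automorphism of `McL`;
* `eight_hn` : a component `A` of the group of fixed points of an outer involutory automorphism of `HN`, `7 ∣ |A / Z(A)|`:
  `20160 ∣ |A / Z(A)|`.
-/

set_option autoImplicit false

namespace Cfsg.Agent.H284.SporOut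

open Subgroup Cfsg

universe u

section mcl

open Cfsg.Agent.UGT.End.McLPerm Cfsg.Agent.UGT.End.McLOuter
open Cfsg.Agent.SporRec.TwoAn Cfsg.Agent.TypeM.Two Cfsg.Agent.TypeM.OuterMcL
open Cfsg.Agent.TypeM.CoverAut Cfsg.Agent.TypeM.FactsAut
open Cfsg.Agent.TypeM
open Cfsg.Agent.TypeM.Two (MT)
open Cfsg.Agent.H287

/-- the centralizers in `C_X(φ)` of its involutions have order dividing 96 -/
theorem cent_fix {G : Type u} [Group G] [Finite G] [IsSimpleGroup G] (L : MT 8 G) (hcard : Nat.card G = 898128000)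
    {φ : MulAut G} (hφ : φ * φ = 1) (hout : ¬ ∃ g, φ = MulAut.conj g) (u : ↥(fixedSubgroup φ)) (hu : orderOf u = 2) :
    Nat.card ↥(centralizer ({u} : Set ↥(fixedSubgroup φ))) ∣ 96 := by
  have hI : ∀ L' : MT 8 G, EvenInner L' := fun L' =>
    Cfsg.Agent.TypeM.OuterInst.evenInner L' (Or.inl rfl) (gen L' (Or.inl ⟨rfl, hcard⟩))
  have hin : φ ∉ (MulAut.conj : G →* MulAut G).range := fun ⟨g, hg⟩ => hout ⟨g, hg.symm⟩
  have hu2 : orderOf (u : G) = 2 := by rw [Subgroup.orderOf_coe, hu]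
  have huu : (u : G) * u = 1 := by rw [← pow_two, ← hu2, pow_orderOf_eq_one]
  have hu1 : (u : G) ≠ 1 := by
    intro h
    rw [h, orderOf_one] at hu2
    omega
  obtain ⟨L1, hL1⟩ := L.exists_rebase huu hu1
  obtain ⟨L2, hL2, hc⟩ := exists_type L1 (fun L' _ => hI L') hφ hin (by rw [hL1]; exact u.2)
  exact cent_dvd L2 hc u (by rw [hL2, hL1])

/-- **`7` does not divide the order of the centralizer of an outer involution of `Aut(McL)`.** -/
theorem seven_mcl {X : Type u} [Group X] (h : Spor.IsoMcL X) {x : MulAut X} (hx : orderOf x = 2)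
    (hout : ¬ ∃ g, x = MulAut.conj g) : ¬ 7 ∣ Nat.card ↥(fixedSubgroup x) := by
  obtain ⟨hfin, hs, hcard, ⟨L⟩⟩ := TypeM.FactsMcL.facts h
  have hxx : x * x = 1 := by rw [← pow_two, ← hx, pow_orderOf_eq_one]
  intro h7
  have : Fact (Nat.Prime 7) := ⟨by norm_num⟩
  obtain ⟨w, hw⟩ := exists_prime_orderOf_dvd_card' 7 h7
  have hw' : orderOf (w : X) = 7 := by rw [Subgroup.orderOf_coe, hw]
  obtain ⟨e⟩ := h
  obtain ⟨z, hz1, hz2⟩ := H291.RowsB.inv_mcl.congr e.symm
  have he := H291.Parity.even_cent_of_small (by norm_num : Nat.Prime 7) (by rw [hcard]; norm_num) hz1 hz2 hw'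
  obtain ⟨u, hu, hxu', huw⟩ := H291.Parity.exists_comm_invo x hxx w.2 he
  have hxu : u ∈ fixedSubgroup x := hxu'
  have hu' : orderOf (⟨u, hxu⟩ : ↥(fixedSubgroup x)) = 2 := by rw [Subgroup.orderOf_mk, hu]
  have h1 := cent_fix L hcard hxx hout ⟨u, hxu⟩ hu'
  have h2 : w ∈ centralizer ({(⟨u, hxu⟩ : ↥(fixedSubgroup x))} : Set ↥(fixedSubgroup x)) := by
    rw [mem_centralizer_singleton_iff]
    exact Subtype.ext huw.symm
  have h3 : 7 ∣ Nat.card ↥(centralizer ({(⟨u, hxu⟩ : ↥(fixedSubgroup x))} : Set ↥(fixedSubgroup x))) := by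
    have h4 : orderOf (⟨w, h2⟩ : ↥(centralizer ({(⟨u, hxu⟩ : ↥(fixedSubgroup x))} : Set ↥(fixedSubgroup x)))) = 7 := by
      rw [Subgroup.orderOf_mk, hw]
    rw [← h4]
    exact orderOf_dvd_natCard _
  exact absurd (h3.trans h1) (by norm_num)

end mcl

section hn

open Cfsg.Agent.HN Cfsg.Agent.HN.Pres Cfsg.Agent.HN.P1408 Cfsg.Agent.HN.H0Basic Cfsg.Agent.HN.Local
open Cfsg.Agent.HN.Iota
open Cfsg.Agent.HN.HS100 (K K_normal)
open Cfsg.Agent.HN.XWords (W0)
open Cfsg.Agent.SignalizersComponents.Components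
open Cfsg.Agent.H287 Cfsg.Agent.H287.OutHN

theorem eight_HN {t : MulAut Cfsg.Spor.HN} (ht : orderOf t = 2) (hout : ¬ ∃ g, t = MulAut.conj g)
    {A : Subgroup ↥(fixedSubgroup t)} (hA : IsComponent A) (h7 : 7 ∣ Nat.card (↥A ⧸ center ↥A)) :
    20160 ∣ Nat.card (↥A ⧸ center ↥A) := by
  have hfin : Finite Cfsg.Spor.HN := Cfsg.Agent.KFacts.HN.finite_HN
  obtain ⟨D⟩ := exists_D
  have htt := orderOf_fix ht
  have hAd : Nat.card (↥A ⧸ center ↥A) ∣ Nat.card ↥A := card_quotient_dvd_card _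
  have : Fact (Nat.Prime 7) := ⟨by norm_num⟩
  obtain ⟨w, hw⟩ := exists_prime_orderOf_dvd_card' 7 (h7.trans hAd)
  have hw1 : orderOf ((w : ↥(fixedSubgroup t)) : Cfsg.Spor.HN) = 7 := by
    rw [Subgroup.orderOf_coe, Subgroup.orderOf_coe, hw]
  obtain ⟨g, w0, k1, k2, k3, k4, k5⟩ := exists_normal D htt hout (w := ((w : ↥(fixedSubgroup t)) : Cfsg.Spor.HN))
    (w : ↥(fixedSubgroup t)).2 (p := 7) (Or.inl rfl) hw1
  obtain ⟨s, rfl⟩ := comm_gz (w := w0) k2.symm (n := 3) (by
    have h := pow_orderOf_eq_one w0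
    rwa [k3] at h)
  have hfx : ∀ y : Cfsg.Spor.HN, (MulAut.conj g * t * (MulAut.conj g)⁻¹) y = y → t (g⁻¹ * y * g) = g⁻¹ * y * g := by
    intro y hy
    rw [conj_apply'] at hy
    nth_rewrite 2 [← hy]
    group
  have hfa : ∀ a : A8, t (g⁻¹ * NormalH.ψ (iota a) * g) = g⁻¹ * NormalH.ψ (iota a) * g := by
    intro a
    apply hfx
    rw [k5 _ (iota_mem_K a)]
    congr 1
    rw [(z_iota a).eq, mul_inv_cancel_right]
  let F : A8 →* ↥(fixedSubgroup t) :=
    { toFun := fun a => ⟨g⁻¹ * NormalH.ψ (iota a) * g, hfa a⟩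
      map_one' := Subtype.ext (by
        change g⁻¹ * NormalH.ψ (iota 1) * g = 1
        rw [map_one, map_one]; group)
      map_mul' := fun a b => Subtype.ext (by
        change g⁻¹ * NormalH.ψ (iota (a * b)) * g = g⁻¹ * NormalH.ψ (iota a) * g * (g⁻¹ * NormalH.ψ (iota b) * g)
        rw [map_mul, map_mul]; group) }
  have hFs : F s = w := Subtype.ext k1.symm
  have h49 : ¬ 7 ^ 2 ∣ Nat.card ↥(fixedSubgroup t) := by
    intro h
    have h1 := h.trans (card_subgroup_dvd_card (fixedSubgroup t))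
    rw [card_HN] at h1
    norm_num at h1
  have hnc := noncentral (H := ↥(fixedSubgroup t)) (A := A) (r := 7)
    (fun h => h49 (h.trans (card_subgroup_dvd_card A))) h7 w.2 (by rw [Subgroup.orderOf_coe, hw])
  have hAn : A.Normal := normal_of_prime (r := 7) (by norm_num) h49 hA w.2 (by rw [Subgroup.orderOf_coe, hw]) hnc
  have hs1 : s ≠ 1 := by
    rintro rfl
    rw [map_one, orderOf_one] at k3
    omega
  have hFA : ∀ a, F a ∈ A := by
    have hn : (A.comap F).Normal := hAn.comap F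
    rcases simple_A8.eq_bot_or_eq_top_of_normal _ hn with h | h
    · exfalso
      have h1 : s ∈ A.comap F := by
        change F s ∈ A
        rw [hFs]
        exact w.2
      rw [h, mem_bot] at h1
      exact hs1 h1
    · intro a
      have h1 : a ∈ A.comap F := by rw [h]; trivial
      exact h1
  let f : A8 →* ↥A ⧸ center ↥A := (QuotientGroup.mk' (center ↥A)).comp (F.codRestrict A hFA)
  have hf : Function.Injective f := by
    rw [← MonoidHom.ker_eq_bot_iff]
    rcases simple_A8.eq_bot_or_eq_top_of_normal f.ker inferInstance with h | h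
    · exact h
    · exfalso
      have h1 : s ∈ f.ker := by rw [h]; trivial
      rw [MonoidHom.mem_ker] at h1
      have h2 : (QuotientGroup.mk (⟨F s, hFA s⟩ : ↥A) : ↥A ⧸ center ↥A) = 1 := h1
      rw [QuotientGroup.eq_one_iff, mem_center_iff] at h2
      obtain ⟨a, ha, hne⟩ := hnc
      apply hne
      have h3 := congrArg Subtype.val (h2 ⟨a, ha⟩)
      change a * F s = F s * a at h3
      rw [hFs] at h3
      exact h3.symm
  have h1 := card_dvd_of_injective f hf
  have h2 : Nat.card A8 = 20160 := by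
    rw [nat_card_alternatingGroup, Nat.card_eq_fintype_card, Fintype.card_fin]
    decide
  rwa [h2] at h1

/-- **Components of order divisible by 7.** -/
theorem eight_hn {X : Type u} [Group X] (h : Spor.IsoHN X) {x : MulAut X} (hx : orderOf x = 2)
    (hout : ¬ ∃ g, x = MulAut.conj g) {A : Subgroup ↥(fixedSubgroup x)} (hA : IsComponent A)
    (h7 : 7 ∣ Nat.card (↥A ⧸ center ↥A)) : 20160 ∣ Nat.card (↥A ⧸ center ↥A) := by
  obtain ⟨e⟩ := h
  have h2 : orderOf (MulAut.congr e x) = 2 := by rw [MulEquiv.orderOf_eq, hx]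
  have h3 : ¬ ∃ g, MulAut.congr e x = MulAut.conj g := by
    rintro ⟨g, hg⟩
    apply hout
    refine ⟨e.symm g, ?_⟩
    ext b
    have h4 := DFunLike.congr_fun hg (e b)
    change e (x (e.symm (e b))) = g * e b * g⁻¹ at h4
    rw [e.symm_apply_apply] at h4
    apply e.injective
    rw [h4, MulAut.conj_apply, map_mul, map_mul, map_inv, e.apply_symm_apply]
  have h4 := Nat.card_congr (CTwoTab.quoEquiv (CTwoTab.subMap (CpAut.fixEquiv e x) A)).toEquiv
  rw [h4] at h7 ⊢
  exact eight_HN h2 h3 (isComponent_map_equiv (CpAut.fixEquiv e x) hA) h7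

end hn

end Cfsg.Agent.H284.SporOut
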