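import Cfsg.Agent.H284.FiveNum
import Cfsg.Agent.H284.SporOut
import Cfsg.Agent.H284.Row96
import Cfsg.Agent.H284.FStd
import Cfsg.Agent.H284.StdRed
import Cfsg.Agent.CpQuot.Quo
import Cfsg.Agent.S0892
import Cfsg.Agent.H295.A7Rows
import Cfsg.Agent.H295.A7ON
import Cfsg.Agent.H295.A7G
import Cfsg.Agent.H291.RowsH
import Cfsg.Agent.H287.OutON
import Cfsg.Agent.H287.InnON
import Cfsg.Agent.H287.InnTwo
import Cfsg.Agent.H287.TwoAlt
import Cfsg.Agent.H287.FixInn

/-!
# S3096: the sporadic rows (helper284)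

`row` : `F*(G)` sporadic, `A` standard, `A / Z(A)` of type `Five`: `A / Z(A) ≅ A₅` or the conclusion of S3096.
-/

set_option autoImplicit false
set_option linter.unusedSectionVars false

namespace Cfsg.Agent.H284.SporFive

open Subgroup Cfsg
open Cfsg.Agent.H284.CpTwoFive Cfsg.Agent.H284.Row96 Cfsg.Agent.H284.FStd Cfsg.Agent.H284.FiveNum
open Cfsg.Agent.SignalizersComponents Cfsg.Agent.H287

universe u v

/-- `InC 2` goes down to the components of the fixed points of the involutory automorphisms (S1814) -/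
def C2Cl : Prop :=
  ∀ (K : Type u) [Group K] [Finite K] [IsSimpleGroup K] (x : MulAut K), orderOf x = 2 → InC 2 K →
    ∀ L : Subgroup (↥(fixedSubgroup x) ⧸ pPrimeCore 2 ↥(fixedSubgroup x)), IsComponent L → InC 2 ↥L

theorem inC_of_cp {X : Type u} [Group X] [Finite X] [IsSimpleGroup X] (hna : ¬ IsMulCommutative X)
    (h : IsCpSimple 2 X) : InC 2 X := by
  obtain ⟨h1, h2⟩ := CTwoTab.good_of_simple hna h
  refine ⟨CTwoTab.isQuasisimple_of_simple hna, ?_, h1, h2⟩
  rw [CTwoTab.center_eq_bot_of_simple hna]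
  exact IsPGroup.of_bot

/-- a component of `H` and the components of `H / O(H)` -/
theorem cp_of_comps {H : Type u} [Group H] [Finite H] {A : Subgroup H} (hA : IsComponent A)
    (hC : ∀ L : Subgroup (H ⧸ pPrimeCore 2 H), IsComponent L → IsCpSimple 2 (↥L ⧸ center ↥L)) :
    IsCpSimple 2 (↥A ⧸ center ↥A) := by
  rcases SignalizersComponents.ComponentImage.map_eq_bot_or_isComponent
    (QuotientGroup.mk'_surjective (pPrimeCore 2 H)) hA with h | h
  · exfalso
    have h1 : A ≤ pPrimeCore 2 H := by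
      intro a ha
      have h2 : QuotientGroup.mk' (pPrimeCore 2 H) a ∈ A.map (QuotientGroup.mk' (pPrimeCore 2 H)) := ⟨a, ha, rfl⟩
      rw [h, mem_bot] at h2
      exact (QuotientGroup.eq_one_iff a).1 h2
    have h2 : (Nat.card ↥(pPrimeCore 2 H)).Coprime 2 := Lib.Cores.pPrimeCore_coprime 2
    have h3 : 2 ∣ Nat.card ↥(pPrimeCore 2 H) := by
      refine dvd_trans ?_ (Subgroup.card_dvd_of_le h1)
      by_contra h4
      have h5 : Odd (Nat.card ↥A) := by
        rw [← Nat.not_even_iff_odd]
        exact fun h => h4 h.two_dvd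
      exact SignalizersComponents.Components.quasisimple_not_isSolvable hA.2 (S0205.result h5)
    rw [Nat.coprime_comm, Nat.Prime.coprime_iff_not_dvd Nat.prime_two] at h2
    exact h2 h3
  · have h1 := hC _ h
    have hnt : Nontrivial ↥(A.map (QuotientGroup.mk' (pPrimeCore 2 H))) :=
      SignalizersComponents.Components.quasisimple_nontrivial h.2
    obtain ⟨f⟩ := CpQuot.Quo.nonempty_equiv hA.2 ((QuotientGroup.mk' (pPrimeCore 2 H)).subgroupMap A)
      ((QuotientGroup.mk' (pPrimeCore 2 H)).subgroupMap_surjective A)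
    exact (CpQuot.Congr.isCpSimple_iff f.symm 2).1 h1

/-- `A / Z(A)` and isomorphisms -/
noncomputable def quotCongr {A B : Type*} [Group A] [Group B] (e : B ≃* A) : B ⧸ center B ≃* A ⧸ center A :=
  QuotientGroup.congr _ _ e (by
    ext y
    constructor
    · rintro ⟨b, hb, rfl⟩
      rw [mem_center_iff]
      intro a
      obtain ⟨c, rfl⟩ := e.surjective a
      have h1 := congrArg e (mem_center_iff.1 hb c)
      rw [map_mul, map_mul] at h1
      exact h1
    · intro hy
      obtain ⟨b, rfl⟩ := e.surjective y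
      refine ⟨b, ?_, rfl⟩
      rw [SetLike.mem_coe, mem_center_iff]
      intro c
      apply e.injective
      rw [map_mul, map_mul]
      exact mem_center_iff.1 hy (e c))

section

variable {G : Type u} [Group G] [Finite G] {X A : Subgroup G} [hXn : X.Normal] (hC : centralizer (X : Set G) = ⊥)
  (hA : IsStandardSubgroup A) (hAX : A ≤ X)

include hC hA hAX in
theorem std_card {S : ℕ → ℕ → Prop} {t : G} (ht : orderOf t = 2) (htA : t ∈ centralizer (A : Set G))
    (hS : HCard S ↥(fixedSubgroup (MulAut.conjNormal t : MulAut ↥X))) :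
    S (Nat.card ↥A) (Nat.card (↥A ⧸ center ↥A)) := by
  have h1 := hS _ (comp_fix hC hA hAX ht htA).2.2
  rw [Nat.card_congr (BBequiv hAX htA).toEquiv, Nat.card_congr (quotCongr (BBequiv hAX htA)).toEquiv] at h1
  exact h1

include hC hA hAX in
/-- the inner case -/
theorem inner_card {S : ℕ → ℕ → Prop} (hX : CTwoTab.CompCard S ↥X) {u : ↥X} (hu : orderOf u = 2)
    (huA : (u : G) ∈ centralizer (A : Set G)) : S (Nat.card ↥A) (Nat.card (↥A ⧸ center ↥A)) := by
  refine std_card hC hA hAX (t := (u : G)) (by rw [Subgroup.orderOf_coe, hu]) huA ?_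
  have e : (MulAut.conjNormal (u : G) : MulAut ↥X) = MulAut.conj u := MulAut.conjNormal_val
  rw [e, CpAut.fixedSubgroup_conj]
  exact HCard.of_comp (hX u hu)

/-- the order of the automorphism -/
theorem order_conj {x : MulAut ↥X} (h : x * x = 1) (h1 : x ≠ 1) : orderOf x = 2 :=
  have : Fact (Nat.Prime 2) := ⟨Nat.prime_two⟩
  orderOf_eq_prime (by rw [pow_two]; exact h) h1

/-- no involution of `X` centralizes `A` -/
def NoInv (X A : Subgroup G) : Prop := ∀ u : ↥X, orderOf u = 2 → (u : G) ∈ centralizer (A : Set G) → False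

include hC hA hAX in
theorem not_inner (hno : NoInv X A) {t : G} (ht : orderOf t = 2) (htA : t ∈ centralizer (A : Set G)) :
    ¬ ∃ k, (MulAut.conjNormal t : MulAut ↥X) = MulAut.conj k := by
  rintro ⟨k, hk⟩
  have h0 : ∀ y ∈ X, (k : G) * y * (k : G)⁻¹ = t * y * t⁻¹ := by
    intro y hy
    have h1 := congrArg (fun f : MulAut ↥X => ((f ⟨y, hy⟩ : ↥X) : G)) hk
    change (((MulAut.conjNormal t : MulAut ↥X) ⟨y, hy⟩ : ↥X) : G) = (k : G) * y * (k : G)⁻¹ at h1
    rw [MulAut.conjNormal_apply] at h1
    exact h1.symm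
  have h1 : t⁻¹ * (k : G) ∈ centralizer (X : Set G) := by
    rw [mem_centralizer_iff]
    intro y hy
    have h2 := h0 y hy
    rw [mul_inv_eq_iff_eq_mul] at h2
    calc y * (t⁻¹ * (k : G)) = t⁻¹ * (t * y * t⁻¹ * (k : G)) := by group
      _ = t⁻¹ * ((k : G) * y) := by rw [h2]
      _ = t⁻¹ * (k : G) * y := by group
  rw [hC, mem_bot] at h1
  have h2 : (k : G) = t := by
    rw [inv_mul_eq_one] at h1
    exact h1.symm
  refine hno k ?_ (h2 ▸ htA)
  rw [← Subgroup.orderOf_coe, h2, ht]

end

section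

variable {G : Type u} [Group G] [Finite G] (hs : IsSimpleGroup ↥(generalizedFittingSubgroup G))
  (hna : ¬ IsMulCommutative ↥(generalizedFittingSubgroup G)) {A : Subgroup G} (hA : IsStandardSubgroup A)
  (h5 : Five (↥A ⧸ center ↥A))

theorem not_comm {A : Type*} [Group A] (hA : IsQuasisimple A) : ¬ IsMulCommutative (A ⧸ center A) := by
  intro hcm
  have hperf : Group.IsPerfect (A ⧸ center A) := by
    have := hA.1
    exact Group.IsPerfect.ofSurjective (QuotientGroup.mk'_surjective (Subgroup.center A))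
  have := hA.2
  have h1 : Group.IsSolvable (A ⧸ center A) := Group.isSolvable_of_comm fun a b => hcm.is_comm.comm a b
  have h2 := IsSimpleGroup.comm_iff_isSolvable.2 h1
  have h3 : commutator (A ⧸ center A) = ⊥ := by
    rw [commutator_def, Subgroup.commutator_eq_bot_iff_le_centralizer]
    intro a _
    rw [mem_centralizer_iff]
    intro b _
    exact h2 _ _
  rw [Group.IsPerfect.commutator_eq_top] at h3
  exact bot_ne_top h3.symm

include hs hna hA h5 in
/-- the `C₂` list -/
theorem c2_row (T : OrdDiv.OrderTable.{u}) (C : C2Cl.{u}) (hX : IsCpSimple 2 ↥(generalizedFittingSubgroup G)) :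
    Nonempty (↥A ⧸ center ↥A ≃* ↥(alternatingGroup (Fin 5))) := by
  have hFn : (generalizedFittingSubgroup G).Normal := Lib.GenFitting.genFitting_normal
  obtain ⟨hAX, hC, t, htA, ht⟩ := fstd hs hna hA
  obtain ⟨hxx, hx1, hB⟩ := comp_fix hC hA hAX ht htA
  have h1 := cp_of_comps hB fun L hL =>
    (C _ (MulAut.conjNormal t) (order_conj hxx hx1) (inC_of_cp hna hX) L hL).2.2.1
  have h2 : IsCpSimple 2 (↥A ⧸ center ↥A) := (CpQuot.Congr.isCpSimple_iff (quotCongr (BBequiv hAX htA)) 2).1 h1
  have := hA.1.2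
  exact five_cp T (not_comm hA.1) h5 h2

theorem cases_inv {G : Type u} [Group G] {A : Subgroup G} : (∃ u : ↥(generalizedFittingSubgroup G), orderOf u = 2 ∧ (u : G) ∈ centralizer (A : Set G)) ∨
    NoInv (generalizedFittingSubgroup G) A := by
  by_cases h : ∃ u : ↥(generalizedFittingSubgroup G), orderOf u = 2 ∧ (u : G) ∈ centralizer (A : Set G)
  · exact Or.inl h
  · exact Or.inr fun u h1 h2 => h ⟨u, h1, h2⟩

theorem ne_card (T : OrdDiv.OrderTable.{u}) {S : Type u} [Group S] (h : Five S) {N : ℕ} (hc : notFive N = true) :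
    Nat.card S ≠ N := by
  intro hN
  have h1 := five_not T h
  rw [hN, hc] at h1
  cases h1

include hs hna hA h5 in
/-- `Co₃` -/
theorem co3_row (T : OrdDiv.OrderTable.{u}) (hX : Spor.IsoCo3 ↥(generalizedFittingSubgroup G)) : False := by
  have hFn : (generalizedFittingSubgroup G).Normal := Lib.GenFitting.genFitting_normal
  obtain ⟨hAX, hC, t, htA, ht⟩ := fstd hs hna hA
  obtain ⟨hxx, hx1, hB⟩ := comp_fix hC hA hAX ht htA
  have h1 := std_card hC hA hAX ht htA (fix_co3 hX _ (order_conj hxx hx1))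
  rcases h1 with ⟨-, h1⟩ | ⟨-, h1⟩
  · exact ne_card T h5 (by decide +kernel) h1
  · exact ne_card T h5 (by decide +kernel) h1

include hs hna hA h5 in
/-- `McL` -/
theorem mcl_row (T : OrdDiv.OrderTable.{u}) (hX : Spor.IsoMcL ↥(generalizedFittingSubgroup G)) :
    Nonempty (↥A ⧸ center ↥A ≃* ↥(alternatingGroup (Fin 5))) := by
  have hFn : (generalizedFittingSubgroup G).Normal := Lib.GenFitting.genFitting_normal
  obtain ⟨hAX, hC, t, htA, ht⟩ := fstd hs hna hA
  rcases cases_inv (A := A) with ⟨u, hu, huA⟩ | hno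
  · exact (ne_card T h5 (by decide +kernel) (inner_card hC hA hAX (TwoAlt.compCard_mcl hX) hu huA).2).elim
  obtain ⟨hxx, hx1, hB⟩ := comp_fix hC hA hAX ht htA
  have hout := not_inner hC hA hAX hno ht htA
  have h7 := SporOut.seven_mcl hX (order_conj hxx hx1) hout
  have hd : Nat.card (↥A ⧸ center ↥A) ∣ Nat.card ↥(fixedSubgroup (MulAut.conjNormal t :
      MulAut ↥(generalizedFittingSubgroup G))) := by
    rw [← Nat.card_congr (quotCongr (BBequiv hAX htA)).toEquiv]
    exact (card_quotient_dvd_card _).trans (card_subgroup_dvd_card _)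
  have hX' : Nat.card ↥(generalizedFittingSubgroup G) = 898128000 := T.spor _ (.mcl, 898128000) (by decide) hX
  have := hA.1.2
  have h1 := five_list T h5 (known_of_five h5) (not_comm hA.1) cert_mcl
    (hX' ▸ hd.trans (card_subgroup_dvd_card _)) (by
      rw [Bool.not_eq_true', ← Bool.not_eq_true, Nat.beq_eq]
      intro h
      exact h7 ((Nat.dvd_of_mod_eq_zero h).trans hd))
  rw [List.mem_singleton] at h1
  exact S0494.result h1

/-- the group `A₇` -/
theorem alt_seven (T : OrdDiv.OrderTable.{u}) {S : Type u} [Group S] (h : Five S) (hc : Nat.card S = 2520) :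
    Nonempty (S ≃* ↥(alternatingGroup (Fin 7))) :=
  alt_of_card T h chk_2520 hc (by norm_num) (by decide)

include hs hna hA in
/-- the configuration of helper295 -/
theorem outer_seven (e : Nonempty (↥A ⧸ center ↥A ≃* ↥(alternatingGroup (Fin 7))))
    (hno : NoInv (generalizedFittingSubgroup G) A) [(generalizedFittingSubgroup G).Normal] :
    ∃ α : MulAut ↥(generalizedFittingSubgroup G), H295.A7.Outer α (A.subgroupOf (generalizedFittingSubgroup G)) := by
  obtain ⟨hAX, hC, t, htA, ht⟩ := fstd hs hna hA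
  refine ⟨MulAut.conjNormal t, ⟨H295.A7.std_of hA hC hAX ht htA e, ?_⟩⟩
  intro u hu huu
  by_contra hu1
  refine hno u ?_ ?_
  · have : Fact (Nat.Prime 2) := ⟨Nat.prime_two⟩
    exact orderOf_eq_prime (by rw [pow_two, huu]) hu1
  · rw [mem_centralizer_iff]
    intro a ha
    exact congrArg Subtype.val (mem_centralizer_iff.1 hu ⟨a, hAX ha⟩ ha)

include hs hna hA h5 in
/-- `O'N` -/
theorem on_row (T : OrdDiv.OrderTable.{u}) (hX : Spor.IsoON ↥(generalizedFittingSubgroup G)) :
    Nonempty (↥A ⧸ center ↥A ≃* ↥(alternatingGroup (Fin 5))) := by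
  have hFn : (generalizedFittingSubgroup G).Normal := Lib.GenFitting.genFitting_normal
  obtain ⟨hAX, hC, t, htA, ht⟩ := fstd hs hna hA
  rcases cases_inv (A := A) with ⟨u, hu, huA⟩ | hno
  · exact (ne_card T h5 (by decide +kernel) (inner_card hC hA hAX (InnON.compCard hX) hu huA).2).elim
  obtain ⟨hxx, hx1, hB⟩ := comp_fix hC hA hAX ht htA
  have hout := not_inner hC hA hAX hno ht htA
  have h2 := std_card hC hA hAX ht htA (OutON.outCard hX _ (order_conj hxx hx1) hout)
  have hd : Nat.card (↥A ⧸ center ↥A) ∣ Nat.card ↥A := card_quotient_dvd_card _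
  have := hA.1.2
  have h1 := five_list T h5 (known_of_five h5) (not_comm hA.1) cert_on (hd.trans h2.1) (by
    rw [Bool.not_eq_true', ← Bool.not_eq_true, Nat.beq_eq]
    intro h
    exact h2.2 ((Nat.dvd_of_mod_eq_zero h).trans hd))
  rw [List.mem_cons, List.mem_singleton] at h1
  rcases h1 with h1 | h1
  · exact S0494.result h1
  · obtain ⟨α, hα⟩ := outer_seven hs hna hA (alt_seven T h5 h1) hno
    exact (H295.A7.ONRow.of_iso hX hα).elim

/-- the multiplier of `A₉` -/
theorem center_bot_nine {A : Type u} [Group A] [Finite A] (hA : IsQuasisimple A)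
    (e : A ⧸ center A ≃* ↥(alternatingGroup (Fin 9))) (hZ : Odd (Nat.card ↥(center A))) : center A = ⊥ := by
  have h1 := S0892.result 9 (by norm_num) (by norm_num) (by norm_num) (center A) le_rfl
    (by rw [hA.1.commutator_eq_top]; exact le_top) e
  have h2 : Nat.card ↥(center A) = 1 := by
    obtain ⟨k, hk⟩ := hZ
    omega
  exact Subgroup.card_eq_one.1 h2

include hs hna hA h5 in
/-- `HN` -/
theorem hn_row (T : OrdDiv.OrderTable.{u}) (hX : Spor.IsoHN ↥(generalizedFittingSubgroup G)) :
    Nonempty (↥A ⧸ center ↥A ≃* ↥(alternatingGroup (Fin 5))) := by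
  have hFn : (generalizedFittingSubgroup G).Normal := Lib.GenFitting.genFitting_normal
  obtain ⟨hAX, hC, t, htA, ht⟩ := fstd hs hna hA
  rcases cases_inv (A := A) with ⟨u, hu, huA⟩ | hno
  · exact (ne_card T h5 (by decide +kernel) (inner_card hC hA hAX (compCard_hn hX) hu huA).2).elim
  obtain ⟨hxx, hx1, hB⟩ := comp_fix hC hA hAX ht htA
  have hout := not_inner hC hA hAX hno ht htA
  have h11 := OutHN.eleven hX (order_conj hxx hx1) hout
  have hd : Nat.card (↥A ⧸ center ↥A) ∣ Nat.card ↥(fixedSubgroup (MulAut.conjNormal t :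
      MulAut ↥(generalizedFittingSubgroup G))) := by
    rw [← Nat.card_congr (quotCongr (BBequiv hAX htA)).toEquiv]
    exact (card_quotient_dvd_card _).trans (card_subgroup_dvd_card _)
  have hX' : Nat.card ↥(generalizedFittingSubgroup G) = 273030912000000 := T.spor _ (.hn, 273030912000000) (by decide) hX
  have := hA.1.2
  have h1 := five_list T h5 (known_of_five h5) (not_comm hA.1) cert_hn
    (hX' ▸ hd.trans (card_subgroup_dvd_card _)) (by
      rw [Bool.not_eq_true', ← Bool.not_eq_true, Nat.beq_eq]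
      intro h
      exact h11 ((Nat.dvd_of_mod_eq_zero h).trans hd))
  rw [List.mem_cons, List.mem_cons, List.mem_cons, List.mem_singleton] at h1
  rcases h1 with h1 | h1 | h1 | h1
  · exact S0494.result h1
  · obtain ⟨α, hα⟩ := outer_seven hs hna hA (alt_seven T h5 h1) hno
    exact (H295.A7.hn hX hα).elim
  · exfalso
    obtain ⟨e⟩ := alt_of_card (m := 9) T h5 chk_181440 h1 (by norm_num) (by decide)
    have hZ : Odd (Nat.card ↥(center ↥A)) := by
      rw [← Nat.not_even_iff_odd]
      intro he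
      have : Fact (Nat.Prime 2) := ⟨Nat.prime_two⟩
      obtain ⟨z, hz⟩ := exists_prime_orderOf_dvd_card' 2 he.two_dvd
      refine hno ⟨((z : ↥A) : G), hAX (z : ↥A).2⟩ ?_ ?_
      · rw [Subgroup.orderOf_mk, Subgroup.orderOf_coe, Subgroup.orderOf_coe, hz]
      · rw [mem_centralizer_iff]
        intro a ha
        exact congrArg Subtype.val (mem_center_iff.1 z.2 ⟨a, ha⟩)
    have hc := center_bot_nine hA.1 e hZ
    have eA : ↥A ≃* ↥(alternatingGroup (Fin 9)) := (quotEquiv hc).symm.trans e
    let S : H291.AltCore.Sit ↥(generalizedFittingSubgroup G) 9 :=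
      { t := MulAut.conjNormal t
        tt := hxx
        A := A.subgroupOf (generalizedFittingSubgroup G)
        fix := fun a ha => le_fix htA ha
        norm := by
          intro y hy a ha
          have h2 : (y : G) ∈ centralizer ({t} : Set G) := by
            rw [mem_centralizer_singleton_iff]
            exact (mem_fix.1 hy).symm
          have h3 := SignalizersComponents.StandardTrichotomy.centralizer_involution_le hA ht htA h2
          rw [mem_subgroupOf]
          exact (mem_normalizer_iff.1 h3 (a : G)).1 ha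
        e := (subgroupOfEquivOfLe hAX).trans eA
        odd := by
          intro u hu _
          by_contra hcon
          push Not at hcon
          refine hno u hu ?_
          rw [mem_centralizer_iff]
          intro a ha
          exact (congrArg Subtype.val (hcon ⟨a, hAX ha⟩ ha)).symm }
    exact H291.RowsH.row_hn9 S hX
  · exfalso
    have h2 := Nat.card_congr (quotCongr (BBequiv hAX htA)).toEquiv
    rw [h1] at h2
    have h3 := SporOut.eight_hn hX (order_conj hxx hx1) hout hB (by rw [h2]; norm_num)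
    rw [h2] at h3
    norm_num at h3

set_option maxHeartbeats 2000000 in
include hs hna hA h5 in
/-- **The sporadic rows.** -/
theorem row (T : OrdDiv.OrderTable.{u}) (C : C2Cl.{u}) (hX : IsSporadicGroup ↥(generalizedFittingSubgroup G)) :
    Nonempty (↥A ⧸ center ↥A ≃* ↥(alternatingGroup (Fin 5))) ∨ Concl ↥(generalizedFittingSubgroup G) := by
  have c2 := fun h : IsCTwoListed ↥(generalizedFittingSubgroup G) =>
    c2_row hs hna hA h5 T C (Or.inr (Or.inr (Or.inl ⟨rfl, h⟩)))
  unfold IsSporadicGroup at hX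
  unfold IsCTwoListed at c2
  rcases hX with h1 | h1 | h1 | h1 | h1 | h1 | h1 | h1 | h1 | h1 | h1 | h1 | h1 | h1 | h1 | h1 | h1 | h1 | h1 | h1 |
    h1 | h1 | h1 | h1 | h1 | h1
  -- M11 M12 M22 M23 M24 J1 J2 J3 J4 Co1 Co2 Co3 McL HS Suz He Ru ON Ly Fi22 Fi23 Fi24' HN Th B M
  · exact Or.inl (c2 (by tauto))
  · exact Or.inl (c2 (by tauto))
  · exact Or.inl (c2 (by tauto))
  · exact Or.inl (c2 (by tauto))
  · exact Or.inl (c2 (by tauto))
  · exact Or.inr (Or.inr (Or.inr (Or.inr (Or.inr (Or.inr (Or.inl h1))))))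
  · exact Or.inl (c2 (by tauto))
  · exact Or.inl (c2 (by tauto))
  · exact Or.inl (c2 (by tauto))
  · exact Or.inl (c2 (by tauto))
  · exact Or.inl (c2 (by tauto))
  · exact (co3_row hs hna hA h5 T h1).elim
  · exact Or.inl (mcl_row hs hna hA h5 T h1)
  · exact Or.inl (c2 (by tauto))
  · exact Or.inl (c2 (by tauto))
  · exact Or.inr (Or.inr (Or.inr (Or.inr (Or.inr (Or.inr (Or.inr (Or.inr (Or.inr h1))))))))
  · exact Or.inl (c2 (by tauto))
  · exact Or.inl (on_row hs hna hA h5 T h1)
  · exact Or.inr (Or.inr (Or.inr (Or.inr (Or.inr (Or.inr (Or.inr (Or.inr (Or.inl h1))))))))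
  · exact Or.inl (c2 (by tauto))
  · exact Or.inl (c2 (by tauto))
  · exact Or.inl (c2 (by tauto))
  · exact Or.inl (hn_row hs hna hA h5 T h1)
  · exact Or.inl (c2 (by tauto))
  · exact Or.inl (c2 (by tauto))
  · exact Or.inl (c2 (by tauto))

end

end Cfsg.Agent.H284.SporFive
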