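import Cfsg.Agent.H284.A5Row
import Cfsg.Agent.H284.SporFive
import Cfsg.Agent.H284.LyRow
import Cfsg.Agent.H284.DescAlt

/-!
# S3096: assembly (helper284)
-/

set_option autoImplicit false

namespace Cfsg.Agent.H284.Main96

open Cfsg Subgroup
open Cfsg.Agent.H284.CpTwoFive Cfsg.Agent.H284.Row96 Cfsg.Agent.H284.A5Row

universe u

/-- The descent from the case of the exceptional groups. -/
theorem desc_of (T : OrdDiv.OrderTable.{u})
    (hexc : ∀ (X : Type u) [Group X] [Finite X] [IsSimpleGroup X] (p : ℕ), p.Prime → p ≠ 2 → p ≠ 5 →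
      H340.IsExcChar p X → ∀ x : MulAut X, x * x = 1 → ∀ A : Subgroup ↥(fixedSubgroup x), A.Normal → IsQuasisimple ↥A →
      IsLieTypeChar 5 (↥A ⧸ center ↥A) → Nonempty (↥A ⧸ center ↥A ≃* ↥(alternatingGroup (Fin 5)))) : Desc.{u} := by
  intro X _ _ _ p hp hp2 hX x hxx _ A hAn hA h5
  exact DescAlt.desc T hp hp2 hX (by rw [pow_two]; exact hxx) hA h5 fun h h1 h2 =>
    hexc X p hp hp2 h h1 x hxx A hAn hA.2 h2

section

variable {G : Type u} [Group G] [Finite G] (hs : IsSimpleGroup ↥(generalizedFittingSubgroup G))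
  (hna : ¬ IsMulCommutative ↥(generalizedFittingSubgroup G)) {A : Subgroup G} (hA : IsStandardSubgroup A)

include hs hna hA in
/-- **S3096** -/
theorem main (I : Inp.{u}) (C : SporFive.C2Cl.{u}) (hk : IsKnownSimple' ↥(generalizedFittingSubgroup G))
    (hAX : IsLieTypeChar 5 (↥A ⧸ center ↥A) ∨
      (∃ n : ℕ, 2 ≤ n ∧ Nonempty (↥A ⧸ center ↥A ≃* ↥(alternatingGroup (Fin (2 * n + 1))))) ∨ Spor.IsoLy ↥A) :
    Concl ↥(generalizedFittingSubgroup G) := by
  have h5 : Five (↥A ⧸ center ↥A) := by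
    rcases hAX with h | h | h
    · exact Or.inl h
    · exact Or.inr h
    · exact (LyRow.not_ly hs hna hA h).elim
  rcases OddHalf.Known.classify hna hk with h | h | h | h
  · exact std_rows hs hna hA I h5 (Or.inl h)
  · exact std_rows hs hna hA I h5 (Or.inr (Or.inl h))
  · exact std_rows hs hna hA I h5 (Or.inr (Or.inr h))
  · rcases SporFive.row hs hna hA h5 I.T C h with ⟨⟨e⟩⟩ | h
    · exact A5Row.main hs hna hA I e
    · exact h

end

end Cfsg.Agent.H284.Main96
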